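import Mathlib
import Cfsg.Agent.Lib.PSLThree.Small.Eigen

/-!
# A group over its core acts faithfully on it
-/

set_option autoImplicit false
set_option linter.unusedSectionVars false

namespace Cfsg.Agent.PSLThree

open Matrix

variable {F : Type*} [Field F] {G P : Subgroup (GL (Fin 3) F)}

local notation "GL3" => GL (Fin 3) F
local notation "Sc" => Cfsg.Geo.scalars (Fin 3) F

namespace Over

variable (hO : Over G P)

/-- the inclusion of the core -/
def incl : Bar P →* Bar G :=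
  QuotientGroup.map _ _ (Subgroup.inclusion hO.le) fun _ hx => hx

theorem incl_mk {x : GL3} (hx : x ∈ P) :
    hO.incl ((⟨x, hx⟩ : P) : Bar P) = ((⟨x, hO.le hx⟩ : G) : Bar G) := rfl

theorem incl_injective : Function.Injective hO.incl := by
  rw [injective_iff_map_eq_one]
  intro x hx
  obtain ⟨g, hg, rfl⟩ := exists_rep x
  rw [hO.incl_mk] at hx
  exact mk_eq_one.2 (mk_eq_one.1 hx)

/-- the faithful action by conjugation on the core -/
theorem exists_act : ∃ Φ : Bar G →* MulAut (Bar P), Function.Injective Φ ∧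
    (∀ g x, hO.incl (Φ g x) = g * hO.incl x * g⁻¹) ∧ ∀ n, Φ (hO.incl n) = MulAut.conj n := by
  haveI hN : hO.incl.range.Normal := ⟨by
    rintro _ ⟨x, rfl⟩ g
    obtain ⟨x, hx, rfl⟩ := exists_rep x
    obtain ⟨y, hy, rfl⟩ := exists_rep g
    exact ⟨((⟨y * x * y⁻¹, hO.normal y hy x hx⟩ : P) : Bar P), rfl⟩⟩
  let e : Bar P ≃* hO.incl.range := MonoidHom.ofInjective hO.incl_injective
  let Φ : Bar G →* MulAut (Bar P) :=
    (MulAut.congr e.symm).toMonoidHom.comp (MulAut.conjNormal (H := hO.incl.range))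
  have key : ∀ g x, hO.incl (Φ g x) = g * hO.incl x * g⁻¹ := fun g x => by
    show ((e (e.symm (MulAut.conjNormal g (e x))) : hO.incl.range) : Bar G) = _
    rw [e.apply_symm_apply, MulAut.conjNormal_apply]
    rfl
  refine ⟨Φ, ?_, key, fun n => MulEquiv.ext fun x => hO.incl_injective ?_⟩
  · rw [injective_iff_map_eq_one]
    intro g hg
    obtain ⟨y, hy, rfl⟩ := exists_rep g
    refine mk_eq_one.2 (hO.cent y hy fun x hx => ?_)
    have h := key ((⟨y, hy⟩ : G) : Bar G) ((⟨x, hx⟩ : P) : Bar P)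
    rw [hg, hO.incl_mk] at h
    refine (mk_eq_one (hg := mul_mem (mul_mem (mul_mem hy (hO.le hx)) (inv_mem hy)) (inv_mem (hO.le hx)))).1 ?_
    show ((⟨y, hy⟩ : G) : Bar G) * ((⟨x, hO.le hx⟩ : G) : Bar G) * ((⟨y, hy⟩ : G) : Bar G)⁻¹ *
      ((⟨x, hO.le hx⟩ : G) : Bar G)⁻¹ = 1
    rw [← h]
    exact mul_inv_cancel _
  · rw [key, MulAut.conj_apply, map_mul, map_mul, map_inv]

/-- the action seen on a model of the core -/
theorem exists_model {N : Type*} [Group N] (e : Bar P ≃* N) : ∃ Φ : Bar G →* MulAut N, Function.Injective Φ ∧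
    (∀ g x, hO.incl (e.symm (Φ g x)) = g * hO.incl (e.symm x) * g⁻¹) ∧
    ∀ n, Φ (hO.incl (e.symm n)) = MulAut.conj n := by
  obtain ⟨Φ, hi, hk, hc⟩ := hO.exists_act
  refine ⟨(MulAut.congr e).toMonoidHom.comp Φ, (MulAut.congr e).injective.comp hi, fun g x => ?_, fun n => ?_⟩
  · show hO.incl (e.symm (e (Φ g (e.symm x)))) = _
    rw [e.symm_apply_apply, hk]
  · refine MulEquiv.ext fun x => ?_
    show e (Φ (hO.incl (e.symm n)) (e.symm x)) = _
    rw [hc, MulAut.conj_apply, MulAut.conj_apply, map_mul, map_mul, map_inv, e.apply_symm_apply, e.apply_symm_apply]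

/-- if all induced automorphisms are inner then there is nothing above the core -/
theorem equiv_of_inner {N : Type*} [Group N] (e : Bar P ≃* N) (Φ : Bar G →* MulAut N) (hi : Function.Injective Φ)
    (hc : ∀ n, Φ (hO.incl (e.symm n)) = MulAut.conj n) (h : ∀ g, ∃ n, Φ g = MulAut.conj n) :
    Nonempty (Bar G ≃* N) := by
  refine ⟨(MulEquiv.ofBijective hO.incl ⟨hO.incl_injective, fun g => ?_⟩).symm.trans e⟩
  obtain ⟨n, hn⟩ := h g
  exact ⟨e.symm n, hi ((hc n).trans hn.symm)⟩

end Over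

variable [Fintype F]

/-- no element of prime order `l` is conjugate to a power whose exponent has order at least four modulo `l` -/
theorem power_fusion (hG : G ≤ Cfsg.Geo.specialLinear (Fin 3) F) {l : ℕ} [Fact l.Prime] (hlF : (l : F) ≠ 0)
    (h3 : l ≠ 3) {x y : Bar G} (hx : x ^ l = 1) (h1 : x ≠ 1) {k : ℕ}
    (hk : (({1, k, k * k, k * k * k} : Finset ℕ).image (· % l)).card = 4) (h : y * x * y⁻¹ = x ^ k) : False := by
  classical
  obtain ⟨g, -, hgl, hg1, he⟩ :=
    Small.exists_lift_conj hG ((Nat.coprime_primes Fact.out Nat.prime_three).2 h3) hlF hx h1 h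
  obtain ⟨z, hz, hz1⟩ : ∃ z ∈ eig g, z ≠ 1 := by
    by_contra hc; push Not at hc; exact hg1 (eq_one_of_eig hlF hgl hc)
  have hord : orderOf z = l := orderOf_eq_prime (pow_eq_one_of_mem hlF hgl hz) hz1
  have hstep : ∀ {j : ℕ}, z ^ j ∈ eig g → z ^ (j * k) ∈ eig g := fun {j} hj => by
    rw [← he, eig_pow hlF hgl, Multiset.mem_map]
    exact ⟨_, hj, (pow_mul z j k).symm⟩
  have a0 : z ^ 1 ∈ eig g := by rwa [pow_one]
  have a1 : z ^ k ∈ eig g := by simpa using hstep a0
  have a2 := hstep a1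
  have a3 := hstep a2
  have := Small.card_le_of_pows hord (({1, k, k * k, k * k * k} : Finset ℕ).image (· % l)) (by
    intro i hi
    obtain ⟨j, hj, rfl⟩ := Finset.mem_image.1 hi
    refine ⟨Nat.mod_lt _ (Fact.out : l.Prime).pos, ?_⟩
    rw [← hord, pow_mod_orderOf]
    simp only [Finset.mem_insert, Finset.mem_singleton] at hj
    rcases hj with rfl | rfl | rfl | rfl
    exacts [a0, a1, a2, a3])
  omega

end Cfsg.Agent.PSLThree
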