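import Mathlib
import Cfsg.Agent.Lib.PSLThree.Over.Act
import Cfsg.Agent.Lib.PSLThree.Basic.UnipFamily
import Cfsg.Agent.Lib.AutPSL.Out

/-!
# A two-dimensional core in natural characteristic: no field automorphisms
-/

set_option autoImplicit false
set_option linter.unusedSectionVars false

namespace Cfsg.Agent.PSLThree

open Matrix
open scoped MatrixGroups
open Cfsg.Agent.Classical.GL2 (uniSL coe_uniSL)
open Cfsg.Agent.AutPSL.Basic (gAut fAut conjSL fieldSL conjSL_coe fieldSL_coe descend_mk)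

variable {K : Type*} [Field K]

local notation "PSL2" => Matrix.ProjectiveSpecialLinearGroup (Fin 2) K

/-- the diagonal matrix with entries `ν, 1` -/
def diagN (ν : K) (hν : ν ≠ 0) : GL (Fin 2) K :=
  Matrix.GeneralLinearGroup.mkOfDetNeZero !![ν, 0; 0, 1] (by simpa [det_fin_two] using hν)

theorem gAut_toGL (s : SL(2, K)) :
    (gAut (Matrix.SpecialLinearGroup.toGL s) : MulAut PSL2) = MulAut.conj (QuotientGroup.mk s : PSL2) := by
  refine MulEquiv.ext fun x => ?_
  induction x using QuotientGroup.induction_on with | H t => ?_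
  rw [MulAut.conj_apply, ← QuotientGroup.mk_inv, ← QuotientGroup.mk_mul, ← QuotientGroup.mk_mul]
  refine congrArg QuotientGroup.mk (Subtype.ext ?_)
  rw [Matrix.SpecialLinearGroup.coe_mul, Matrix.SpecialLinearGroup.coe_mul]
  rfl

theorem gAut_upper {b : GL (Fin 2) K} (hb : (b : Matrix (Fin 2) (Fin 2) K) 1 0 = 0) (c : K) :
    (gAut b : MulAut PSL2) (uniBar c) = uniBar ((b : Matrix (Fin 2) (Fin 2) K) 0 0 /
      (b : Matrix (Fin 2) (Fin 2) K) 1 1 * c) := by
  have hd : (b : Matrix (Fin 2) (Fin 2) K).det ≠ 0 := ((Matrix.isUnit_iff_isUnit_det _).1 b.isUnit).ne_zero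
  rw [det_fin_two, hb, mul_zero, sub_zero] at hd
  have h11 := right_ne_zero_of_mul hd
  refine congrArg QuotientGroup.mk (Subtype.ext ?_)
  show (b : Matrix (Fin 2) (Fin 2) K) * (uniSL c : SL(2, K)).1 * ((b⁻¹ : GL (Fin 2) K) : Matrix (Fin 2) (Fin 2) K) =
    (uniSL _ : SL(2, K)).1
  rw [coe_uniSL, coe_uniSL, Units.mul_inv_eq_iff_eq_mul]
  ext i j
  fin_cases i <;> fin_cases j <;> simp [Matrix.mul_apply, Fin.sum_univ_two, hb]
  field_simp
  ring

theorem gAut_diagN (ν : K) (hν : ν ≠ 0) (c : K) : (gAut (diagN ν hν) : MulAut PSL2) (uniBar c) = uniBar (ν * c) := by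
  rw [gAut_upper (by simp [diagN])]
  simp [diagN]

theorem fAut_uni (σ : K ≃+* K) (c : K) : (fAut σ : MulAut PSL2) (uniBar c) = uniBar (σ c) := by
  refine congrArg QuotientGroup.mk (Subtype.ext ?_)
  show (uniSL c : SL(2, K)).1.map σ = (uniSL (σ c) : SL(2, K)).1
  rw [coe_uniSL, coe_uniSL]
  ext i j
  fin_cases i <;> fin_cases j <;> simp

theorem inner_of_isSquare {m : GL (Fin 2) K} (h : IsSquare (m : Matrix (Fin 2) (Fin 2) K).det) :
    ∃ n : PSL2, (gAut m : MulAut PSL2) = MulAut.conj n := by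
  obtain ⟨c, hc⟩ := h
  have hd : (m : Matrix (Fin 2) (Fin 2) K).det ≠ 0 := ((Matrix.isUnit_iff_isUnit_det _).1 m.isUnit).ne_zero
  have hc0 : c ≠ 0 := fun h0 => hd (by rw [hc, h0, mul_zero])
  let s : SL(2, K) := ⟨c⁻¹ • (m : Matrix (Fin 2) (Fin 2) K), by
    rw [det_smul, hc, Fintype.card_fin]; field_simp⟩
  refine ⟨QuotientGroup.mk s, ?_⟩
  let z : GL (Fin 2) K := Matrix.GeneralLinearGroup.scalar (Fin 2) (Units.mk0 c hc0)
  have hz : z ∈ Subgroup.center (GL (Fin 2) K) := by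
    rw [Matrix.GeneralLinearGroup.center_eq_range_scalar]; exact ⟨_, rfl⟩
  have hm : m = z * Matrix.SpecialLinearGroup.toGL s := Units.ext (by
    rw [Units.val_mul]
    show _ = (z : Matrix (Fin 2) (Fin 2) K) * (c⁻¹ • (m : Matrix (Fin 2) (Fin 2) K))
    simp [z, smul_smul, hc0, ← smul_eq_diagonal_mul])
  rw [hm, map_mul, (AutPSL.Out.gAut_eq_one_iff le_rfl z).2 hz, one_mul, gAut_toGL]

/-- a linear automorphism is inner or inner times a fixed diagonal one -/
theorem gAut_split [Fintype K] {ν : K} (hν : ν ≠ 0) (hns : ¬ IsSquare ν) (m : GL (Fin 2) K) :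
    (∃ n : PSL2, (gAut m : MulAut PSL2) = MulAut.conj n) ∨
      ∃ n : PSL2, (gAut m : MulAut PSL2) = MulAut.conj n * gAut (diagN ν hν) := by
  classical
  by_cases h : IsSquare (m : Matrix (Fin 2) (Fin 2) K).det
  · exact Or.inl (inner_of_isSquare h)
  · refine Or.inr ?_
    have hd : (m : Matrix (Fin 2) (Fin 2) K).det ≠ 0 := ((Matrix.isUnit_iff_isUnit_det _).1 m.isUnit).ne_zero
    have hsq : IsSquare ((m : Matrix (Fin 2) (Fin 2) K).det * ν) :=
      (quadraticChar_one_iff_isSquare (mul_ne_zero hd hν)).1 (by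
        rw [map_mul, quadraticChar_neg_one_iff_not_isSquare.2 h, quadraticChar_neg_one_iff_not_isSquare.2 hns]
        rfl)
    have hdet : ((m * (diagN ν hν)⁻¹ : GL (Fin 2) K) : Matrix (Fin 2) (Fin 2) K).det =
        (m : Matrix (Fin 2) (Fin 2) K).det * ν * (ν⁻¹ * ν⁻¹) := by
      rw [Units.val_mul, det_mul]
      have h1 := congrArg Matrix.det (Units.mul_inv (diagN ν hν))
      rw [det_mul, det_one] at h1
      have h2 : ((diagN ν hν : GL (Fin 2) K) : Matrix (Fin 2) (Fin 2) K).det = ν := by simp [diagN, det_fin_two]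
      rw [h2] at h1
      rw [eq_inv_of_mul_eq_one_right h1]
      field_simp
    obtain ⟨n, hn⟩ := inner_of_isSquare (m := m * (diagN ν hν)⁻¹) (hdet ▸ hsq.mul ⟨ν⁻¹, rfl⟩)
    exact ⟨n, by rw [← hn, ← map_mul, inv_mul_cancel_right]⟩

variable {F : Type*} [Field F] {G P : Subgroup (GL (Fin 3) F)}

/-- in natural characteristic no induced automorphism involves a field automorphism -/
theorem field_trivial (hO : Over G P) (hT : ¬ HasTrv P) (p : ℕ) [Fact p.Prime] [CharP F p] [CharP K p]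
    (hp : p ≠ 2) (e : Bar P ≃* PSL2) (Φ : Bar G →* MulAut PSL2)
    (hk : ∀ g x, hO.incl (e.symm (Φ g x)) = g * hO.incl (e.symm x) * g⁻¹)
    (hc : ∀ n, Φ (hO.incl (e.symm n)) = MulAut.conj n) {g : Bar G} {m : GL (Fin 2) K} {σ : K ≃+* K}
    (h : Φ g = gAut m * fAut σ) : σ = 1 := by
  obtain ⟨ψ, hψ⟩ := exists_embedding p hO.core.le hT hp e
  obtain ⟨s, hs⟩ : ∃ s : SL(2, K), ((Matrix.SpecialLinearGroup.toGL s * m : GL (Fin 2) K) :
      Matrix (Fin 2) (Fin 2) K) 1 0 = 0 := by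
    by_cases h10 : (m : Matrix (Fin 2) (Fin 2) K) 1 0 = 0
    · exact ⟨1, by simpa using h10⟩
    · refine ⟨⟨!![0, ((m : Matrix (Fin 2) (Fin 2) K) 1 0)⁻¹; -(m : Matrix (Fin 2) (Fin 2) K) 1 0,
        (m : Matrix (Fin 2) (Fin 2) K) 0 0], by simp [det_fin_two, h10]⟩, ?_⟩
      rw [Units.val_mul]
      show ((!![0, ((m : Matrix (Fin 2) (Fin 2) K) 1 0)⁻¹; -(m : Matrix (Fin 2) (Fin 2) K) 1 0,
        (m : Matrix (Fin 2) (Fin 2) K) 0 0] : Matrix (Fin 2) (Fin 2) K) * (m : Matrix (Fin 2) (Fin 2) K)) 1 0 = 0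
      simp [Matrix.mul_apply, Fin.sum_univ_two]
      ring
  set b := Matrix.SpecialLinearGroup.toGL s * m with hb
  set ν := (b : Matrix (Fin 2) (Fin 2) K) 0 0 / (b : Matrix (Fin 2) (Fin 2) K) 1 1 with hνdef
  obtain ⟨y, hy, hym⟩ := exists_rep (hO.incl (e.symm (QuotientGroup.mk s)) * g)
  have hΦ : Φ ((⟨y, hy⟩ : G) : Bar G) = gAut b * fAut σ := by
    rw [hym, map_mul, hc, h, hb, map_mul, gAut_toGL, mul_assoc]
  have key := hψ y (hO.normal y hy) (fun x => e.symm (Φ ((⟨y, hy⟩ : G) : Bar G) (e x)))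
    (fun x hx => hO.incl_injective (by
      rw [hk, e.symm_apply_apply]
      rfl))
    (fun a => ν * σ a) (fun a => by
      rw [e.apply_symm_apply, e.apply_symm_apply, hΦ, MulAut.mul_apply, fAut_uni, gAut_upper hs])
  have hν0 : ν ≠ 0 := by
    have hd : (b : Matrix (Fin 2) (Fin 2) K).det ≠ 0 := ((Matrix.isUnit_iff_isUnit_det _).1 b.isUnit).ne_zero
    rw [det_fin_two, hs, mul_zero, sub_zero] at hd
    exact div_ne_zero (left_ne_zero_of_mul hd) (right_ne_zero_of_mul hd)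
  refine RingEquiv.ext fun a => ?_
  have e1 := key a
  simp only [map_one, mul_one] at e1
  rw [← map_mul] at e1
  exact mul_left_cancel₀ hν0 (ψ.injective e1)

end Cfsg.Agent.PSLThree
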