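import Mathlib
import Cfsg.Agent.Lib.PSLThree.Over.TwoDim
import Cfsg.Agent.Lib.PSLThree.Small.Lifts
import Cfsg.Agent.Lib.PSLBinary.Basic
import Cfsg.Agent.S0254

/-!
# The core `PSL₂(9)`: no diagonal and no field automorphisms outside characteristic three
-/

set_option autoImplicit false
set_option linter.unusedSectionVars false

namespace Cfsg.Agent.PSLThree

open Matrix
open scoped MatrixGroups
open Cfsg.Agent.S0254 (K9)
open Cfsg.Agent.AutPSL.Basic (gAut fAut conjSL fieldSL conjSL_coe fieldSL_coe descend_mk)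

variable {F : Type*} [Field F] [Fintype F] {G P : Subgroup (GL (Fin 3) F)}

local notation "GL3" => GL (Fin 3) F
local notation "Sc" => Cfsg.Geo.scalars (Fin 3) F
local notation "Fb" => AlgebraicClosure F
local notation "P9" => Matrix.ProjectiveSpecialLinearGroup (Fin 2) K9

theorem inFrame_scalar (T : GL (Fin 3) (AlgebraicClosure F)) {z : GL3} (hz : z ∈ Sc) :
    ∃ σ : Fb, σ ≠ 0 ∧ Small.inFrame T z = diagonal fun _ => σ := by
  obtain ⟨c, hc⟩ := (Cfsg.Geo.mem_scalars_iff z).1 hz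
  refine ⟨algebraMap F Fb c, (map_ne_zero _).2 c.ne_zero, ?_⟩
  have hb : bar z = algebraMap F Fb c • (1 : Matrix (Fin 3) (Fin 3) Fb) := by
    ext i j
    by_cases hij : i = j
    · subst hij; simp [bar, hc]
    · simp [bar, hc, Matrix.one_apply_ne hij]
  rw [Small.inFrame, hb, Matrix.mul_smul, Matrix.mul_one, Matrix.smul_mul, Units.inv_mul, smul_one_eq_diagonal]

theorem inFrame_pow {T : GL (Fin 3) (AlgebraicClosure F)} {g : GL3} {μ : Fin 3 → Fb}
    (h : Small.inFrame T g = diagonal μ) (n : ℕ) : Small.inFrame T (g ^ n) = diagonal (μ ^ n) := by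
  induction n with
  | zero => simp [Small.inFrame_one]
  | succ n ih => rw [pow_succ, Small.inFrame_mul, ih, h, Matrix.diagonal_mul_diagonal, pow_succ]; rfl

theorem iterate_fin_three : ∀ (j : Fin 3 → Fin 3) (i : Fin 3), j^[4] i = j^[10] i := by decide

/-- lifts of a nine-group with a fixed-point-free element of order four do not commute -/
theorem not_commute_nine (hG : G ≤ Cfsg.Geo.specialLinear (Fin 3) F) (hF3 : ((3 : ℕ) : F) ≠ 0)
    {e f k : Bar G} (he : e ^ 3 = 1) (he1 : e ≠ 1) (hf : f ^ 3 = 1) (hke : k * e * k⁻¹ = f)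
    (hkf : k * f * k⁻¹ = e⁻¹) {a b : GL3} (ha : a ∈ G) (hb : b ∈ G) (hae : ((⟨a, ha⟩ : G) : Bar G) = e)
    (hbf : ((⟨b, hb⟩ : G) : Bar G) = f) : ¬ Commute a b := by
  intro hab
  have h3 : ∀ {g : GL3} (hg : g ∈ G), ((⟨g, hg⟩ : G) : Bar G) ^ 3 = 1 → g ^ 3 ∈ Sc := fun {g} hg h =>
    (mk_eq_one (hg := pow_mem hg 3)).1 h
  have h9 : ∀ {g : GL3}, g ∈ G → g ^ 3 ∈ Sc → g ^ 9 = 1 := fun {g} hg h => by
    rw [show 9 = 3 * 3 from rfl, pow_mul, scalar_cube hG (pow_mem hg 3) h]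
  have ha3 : a ^ 3 ∈ Sc := h3 ha (hae ▸ he)
  have hb3 : b ^ 3 ∈ Sc := h3 hb (hbf ▸ hf)
  have h9' : ((9 : ℕ) : F) ≠ 0 := by
    rw [show (9 : ℕ) = 3 * 3 from rfl, Nat.cast_mul]; exact mul_ne_zero hF3 hF3
  obtain ⟨T, hT⟩ := exists_frame {a, b}
    (by rintro g (rfl | rfl) h (rfl | rfl); exacts [Commute.refl _, hab, hab.symm, Commute.refl _])
    (by rintro g (rfl | rfl); exacts [⟨9, h9', h9 ha ha3⟩, ⟨9, h9', h9 hb hb3⟩])
  obtain ⟨α, hα⟩ := hT a (Or.inl rfl)
  obtain ⟨β, hβ⟩ := hT b (Or.inr rfl)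
  have hα' := Small.inFrame_of_bar hα
  have hβ' := Small.inFrame_of_bar hβ
  obtain ⟨c, hc, rfl⟩ := exists_rep k
  have hz1 : b⁻¹ * (c * a * c⁻¹) ∈ Sc := (mk_eq (hg := hb) (hh := mul_mem (mul_mem hc ha) (inv_mem hc))).1
    (by rw [hbf, ← hke, ← hae]; rfl)
  have hz2 : (a ^ 8)⁻¹ * (c * b * c⁻¹) ∈ Sc := by
    refine (mk_eq (hg := pow_mem ha 8) (hh := mul_mem (mul_mem hc hb) (inv_mem hc))).1 ?_
    show ((⟨a, ha⟩ : G) : Bar G) ^ 8 = ((⟨c, hc⟩ : G) : Bar G) * ((⟨b, hb⟩ : G) : Bar G) * ((⟨c, hc⟩ : G) : Bar G)⁻¹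
    rw [hbf, hkf, hae]
    refine eq_inv_of_mul_eq_one_left ?_
    rw [← pow_succ, show 8 + 1 = 3 * 3 from rfl, pow_mul, he, one_pow]
  obtain ⟨σ, hσ, hs⟩ := inFrame_scalar T hz1
  obtain ⟨σ', hσ', hs'⟩ := inFrame_scalar T hz2
  choose j hj using Small.exists_row_ne T c
  have e1 : ∀ i, α (j i) = β i * σ := fun i => Small.intertwine (Small.conj_intertwine hα'
    (h := b * (b⁻¹ * (c * a * c⁻¹))) (b := fun i => β i * σ)
    (by rw [Small.inFrame_mul, hβ', hs, Matrix.diagonal_mul_diagonal]) (by group)) (hj i)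
  have e2 : ∀ i, β (j i) = α i ^ 8 * σ' := fun i => Small.intertwine (Small.conj_intertwine hβ'
    (h := a ^ 8 * ((a ^ 8)⁻¹ * (c * b * c⁻¹))) (b := fun i => α i ^ 8 * σ')
    (by rw [Small.inFrame_mul, inFrame_pow hα', hs', Matrix.diagonal_mul_diagonal]; rfl) (by group)) (hj i)
  have hα9 : ∀ i, α i ^ 9 = 1 := fun i => by
    have h := inFrame_pow hα' 9
    rw [h9 ha ha3, Small.inFrame_one, ← Matrix.diagonal_one] at h
    exact (congrFun (Matrix.diagonal_injective h) i).symm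
  have hα0 : ∀ i, α i ≠ 0 := fun i h => by simpa [h] using hα9 i
  have hstep : ∀ i i', α (j (j i)) / α (j (j i')) = (α i / α i')⁻¹ := fun i i' => by
    rw [e1, e1, mul_div_mul_right _ _ hσ, e2, e2, mul_div_mul_right _ _ hσ', ← div_pow, ← mul_right_inj' (a := α i / α i')
      (div_ne_zero (hα0 i) (hα0 i')), mul_inv_cancel₀ (div_ne_zero (hα0 i) (hα0 i')), ← pow_succ', div_pow, hα9, hα9,
      div_one]
  have hu : ∀ i i', α i = α i' := fun i i' => by
    have h4 : α (j^[4] i) / α (j^[4] i') = α i / α i' := by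
      simp only [Function.iterate_succ_apply', Function.iterate_zero_apply, hstep, inv_inv]
    have h10 : α (j^[10] i) / α (j^[10] i') = (α i / α i')⁻¹ := by
      simp only [Function.iterate_succ_apply', Function.iterate_zero_apply, hstep, inv_inv]
    rw [← iterate_fin_three, ← iterate_fin_three, h4] at h10
    have hsq : (α i / α i') ^ 2 = 1 := by
      rw [pow_two]
      nth_rw 2 [h10]
      exact mul_inv_cancel₀ (div_ne_zero (hα0 i) (hα0 i'))
    have hcube : (α i / α i') ^ 3 = 1 := by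
      obtain ⟨τ, hτ, ht⟩ := inFrame_scalar T ha3
      rw [inFrame_pow hα'] at ht
      have h0 := congrFun (Matrix.diagonal_injective ht)
      have h0i := h0 i
      have h0i' := h0 i'
      simp only [Pi.pow_apply] at h0i h0i'
      rw [div_pow, h0i, h0i', div_self hτ]
    refine (div_eq_one_iff_eq (hα0 i')).1 ?_
    calc α i / α i' = (α i / α i') ^ 3 / (α i / α i') ^ 2 := by
          rw [pow_succ, mul_div_cancel_left₀ _ (pow_ne_zero 2 (div_ne_zero (hα0 i) (hα0 i')))]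
      _ = 1 := by rw [hcube, hsq, div_one]
  refine he1 (hae ▸ mk_eq_one.2 (Small.scalar_of_inFrame (T := T) (c := α 0) ?_))
  rw [hα', funext fun i => hu i 0]

/-- the commutator of two lifts is invariant under changing the lifts -/
theorem comm_congr {a b a' b' : GL3} (ha : a⁻¹ * a' ∈ Sc) (hb : b⁻¹ * b' ∈ Sc) :
    a' * b' * a'⁻¹ * b'⁻¹ = a * b * a⁻¹ * b⁻¹ := by
  obtain ⟨z, hz, rfl⟩ : ∃ z ∈ Sc, a' = a * z := ⟨_, ha, (mul_inv_cancel_left a a').symm⟩
  obtain ⟨w, hw, rfl⟩ : ∃ w ∈ Sc, b' = b * w := ⟨_, hb, (mul_inv_cancel_left b b').symm⟩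
  have hzc := scalar_comm hz
  have hwc := scalar_comm hw
  calc a * z * (b * w) * (a * z)⁻¹ * (b * w)⁻¹ = a * ((z * (b * w)) * z⁻¹) * a⁻¹ * w⁻¹ * b⁻¹ := by group
    _ = a * (b * w) * a⁻¹ * w⁻¹ * b⁻¹ := by rw [(hzc (b * w)).eq, mul_inv_cancel_right]
    _ = a * b * ((w * a⁻¹) * w⁻¹) * b⁻¹ := by group
    _ = _ := by rw [(hwc a⁻¹).eq, mul_inv_cancel_right]

/-- nothing acts with determinant minus one on such a nine-group -/
theorem det_neg (hG : G ≤ Cfsg.Geo.specialLinear (Fin 3) F) (hF3 : ((3 : ℕ) : F) ≠ 0) {e f k y : Bar G}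
    (he : e ^ 3 = 1) (he1 : e ≠ 1) (hef3 : (e * f) ^ 3 = 1) (hef : Commute e f) (hke : k * e * k⁻¹ = e * f)
    (hkf : k * (e * f) * k⁻¹ = e⁻¹)
    (hy : (y * e * y⁻¹ = f ∧ y * f * y⁻¹ = e * f) ∨ (y * e * y⁻¹ = e ∧ y * f * y⁻¹ = e * f⁻¹)) : False := by
  obtain ⟨a, ha, rfl⟩ := exists_rep e
  obtain ⟨b, hb, rfl⟩ := exists_rep f
  obtain ⟨c, hc, rfl⟩ := exists_rep y
  have hne := not_commute_nine hG hF3 he he1 hef3 hke hkf ha (mul_mem ha hb) rfl rfl
  set s := a * b * a⁻¹ * b⁻¹ with hs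
  have hsc : s ∈ Sc := (mk_eq_one (hg := mul_mem (mul_mem (mul_mem ha hb) (inv_mem ha)) (inv_mem hb))).1 (by
    show ((⟨a, ha⟩ : G) : Bar G) * ((⟨b, hb⟩ : G) : Bar G) * ((⟨a, ha⟩ : G) : Bar G)⁻¹ * ((⟨b, hb⟩ : G) : Bar G)⁻¹ = 1
    rw [hef.eq, mul_inv_cancel_right, mul_inv_cancel])
  have hs3 : s ^ 3 = 1 :=
    scalar_cube hG (mul_mem (mul_mem (mul_mem ha hb) (inv_mem ha)) (inv_mem hb)) hsc
  have hca := mul_mem (mul_mem hc ha) (inv_mem hc)
  have hcb := mul_mem (mul_mem hc hb) (inv_mem hc)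
  have hsame : (c * a * c⁻¹) * (c * b * c⁻¹) * (c * a * c⁻¹)⁻¹ * (c * b * c⁻¹)⁻¹ = s := by
    calc _ = c * s * c⁻¹ := by rw [hs]; group
      _ = s := by rw [← (scalar_comm hsc c).eq, mul_inv_cancel_right]
  have hinv : s = s⁻¹ := by
    rcases hy with ⟨h1, h2⟩ | ⟨h1, h2⟩
    · refine hsame.symm.trans ((comm_congr ((mk_eq (hg := hb) (hh := hca)).1 h1.symm)
        ((mk_eq (hg := mul_mem ha hb) (hh := hcb)).1 h2.symm)).trans ?_)
      rw [hs]; group
    · refine hsame.symm.trans ((comm_congr ((mk_eq (hg := ha) (hh := hca)).1 h1.symm)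
        ((mk_eq (hg := mul_mem ha (inv_mem hb)) (hh := hcb)).1 h2.symm)).trans ?_)
      calc a * (a * b⁻¹) * a⁻¹ * (a * b⁻¹)⁻¹ = a * (b⁻¹ * s⁻¹ * b) * a⁻¹ := by rw [hs]; group
        _ = s⁻¹ := by
          rw [mul_assoc b⁻¹, (scalar_comm (inv_mem hsc) b).eq, inv_mul_cancel_left,
            ← (scalar_comm (inv_mem hsc) a).eq, mul_inv_cancel_right]
  have hs1 : s = 1 := by
    have h2 : s * s = 1 := by nth_rw 1 [hinv]; exact inv_mul_cancel s
    rwa [pow_three, h2, mul_one] at hs3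
  refine hne ?_
  have hab : Commute a b := mul_inv_eq_iff_eq_mul.1 (mul_inv_eq_one.1 hs1)
  exact (Commute.refl a).mul_right hab

/-- the generator of the multiplicative group of the field with nine elements used below -/
def nu : K9 := ⟨2, 1⟩

theorem nu_sq : nu * nu = 1 + nu := by decide +kernel
theorem nu_ne : nu ≠ 0 := by decide +kernel
theorem nu_not_isSquare : ¬ IsSquare nu := by
  rintro ⟨c, hc⟩
  revert c
  decide +kernel

theorem ringAut_nine {σ : K9 ≃+* K9} (h : σ ≠ 1) : σ nu = 1 - nu := by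
  have hroot : (σ nu - nu) * (σ nu + nu - 1) = 0 := by
    have h2 := congrArg σ nu_sq
    rw [map_mul, map_add, map_one] at h2
    linear_combination h2 - nu_sq
  rcases mul_eq_zero.1 hroot with h0 | h0
  · refine absurd (RingEquiv.ext fun c => ?_) h
    have hgen : ∀ c : K9, ∃ a b : Fin 3, c = (a.val : ℕ) • (1 : K9) + (b.val : ℕ) • nu := by decide +kernel
    obtain ⟨a, b, rfl⟩ := hgen c
    show σ _ = _
    rw [map_add, map_nsmul, map_nsmul, map_one, sub_eq_zero.1 h0]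
    rfl
  · linear_combination h0

theorem comp_pow_five : (PSLBinary.comp (-nu) : SL(2, K9)) ^ 5 = 1 := by decide +kernel

theorem comp_not_center : (QuotientGroup.mk (PSLBinary.comp (-nu)) : P9) ≠ 1 := by
  intro h
  obtain ⟨c, hc⟩ := (AutPSL.Basic.mk_eq_one_iff _).1 h
  have := congrFun (congrFun hc 1) 0
  simp [PSLBinary.coe_comp] at this

section Model

variable (hO : Over G P) (hF3 : ((3 : ℕ) : F) ≠ 0) (e : Bar P ≃* Matrix.ProjectiveSpecialLinearGroup (Fin 2) K9)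
  (Φ : Bar G →* MulAut (Matrix.ProjectiveSpecialLinearGroup (Fin 2) K9))
  (hk : ∀ g x, hO.incl (e.symm (Φ g x)) = g * hO.incl (e.symm x) * g⁻¹)
  (hc : ∀ n, Φ (hO.incl (e.symm n)) = MulAut.conj n)

include hF3 hk hc in
theorem no_det_neg {g : Bar G}
    (h : (Φ g (uniBar 1) = uniBar nu ∧ Φ g (uniBar nu) = uniBar (1 + nu)) ∨
      (Φ g (uniBar 1) = uniBar 1 ∧ Φ g (uniBar nu) = uniBar (1 - nu))) : False := by
  let x : K9 → Bar G := fun c => hO.incl (e.symm (uniBar c))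
  have hadd : ∀ c d, x (c + d) = x c * x d := fun c d => by simp only [x, uniBar_add, map_mul]
  have hx0 : x 0 = 1 := by simp [x, uniBar_zero]
  have hneg : ∀ c, x (-c) = (x c)⁻¹ := fun c => eq_inv_of_mul_eq_one_left (by rw [← hadd, neg_add_cancel, hx0])
  have hthree : ∀ c : K9, c + c + c = 0 := by decide +kernel
  have hx3 : ∀ c, x c ^ 3 = 1 := fun c => by rw [pow_three, ← hadd, ← hadd, ← add_assoc, hthree, hx0]
  have act : ∀ {g c c'}, Φ g (uniBar c) = uniBar c' → g * x c * g⁻¹ = x c' := fun {g c c'} h => by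
    simp only [x]; rw [← hk, h]
  obtain ⟨d, hd⟩ := exists_torus nu_ne
  let k := hO.incl (e.symm (QuotientGroup.mk d))
  have hkt : ∀ c, k * x c * k⁻¹ = x (nu * nu * c) := fun c => act (by
    rw [hc, MulAut.conj_apply, uniBar, uniBar, ← QuotientGroup.mk_inv, ← QuotientGroup.mk_mul,
      ← QuotientGroup.mk_mul, hd])
  refine det_neg hO.le_sl hF3 (e := x 1) (f := x nu) (k := k) (y := g) (hx3 1) (fun h1 => ?_)
    (by rw [← hadd]; exact hx3 _) (show x 1 * x nu = x nu * x 1 by rw [← hadd, ← hadd, add_comm])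
    (by rw [hkt, mul_one, nu_sq, hadd])
    (by rw [← hadd, hkt, ← hneg]; exact congrArg x (by decide +kernel)) ?_
  · exact one_ne_zero (uniBar_injective ((e.symm.injective ((hO.incl_injective (h1.trans (map_one _).symm)).trans
      (map_one _).symm)).trans uniBar_zero.symm))
  · rcases h with ⟨h1, h2⟩ | ⟨h1, h2⟩
    · exact Or.inl ⟨act h1, (act h2).trans (hadd _ _)⟩
    · exact Or.inr ⟨act h1, (act h2).trans (by rw [sub_eq_add_neg, hadd, hneg])⟩

include hF3 hk hc in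
/-- the linear induced automorphisms are inner -/
theorem nine_linear {g : Bar G} {m : GL (Fin 2) K9} (h : Φ g = gAut m) : ∃ n, Φ g = MulAut.conj n := by
  rcases gAut_split nu_ne nu_not_isSquare m with ⟨n, hn⟩ | ⟨n, hn⟩
  · exact ⟨n, h.trans hn⟩
  · exfalso
    have h' : Φ ((hO.incl (e.symm n))⁻¹ * g) = gAut (diagN nu nu_ne) := by
      rw [map_mul, map_inv, hc, h, hn, inv_mul_cancel_left]
    exact no_det_neg hO hF3 e Φ hk hc (g := (hO.incl (e.symm n))⁻¹ * g)
      (Or.inl ⟨by rw [h', gAut_diagN, mul_one], by rw [h', gAut_diagN, nu_sq]⟩)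

include hF3 hk hc in
/-- outside characteristic five there are no field automorphisms -/
theorem nine_field (h5 : ((5 : ℕ) : F) ≠ 0) {g : Bar G} {m : GL (Fin 2) K9} {σ : K9 ≃+* K9}
    (h : Φ g = gAut m * fAut σ) : σ = 1 := by
  by_contra hσ
  have hν := ringAut_nine hσ
  rcases gAut_split nu_ne nu_not_isSquare m with ⟨n, hn⟩ | ⟨n, hn⟩
  · have h' : Φ ((hO.incl (e.symm n))⁻¹ * g) = fAut σ := by
      rw [map_mul, map_inv, hc, h, hn, inv_mul_cancel_left]
    exact no_det_neg hO hF3 e Φ hk hc (g := (hO.incl (e.symm n))⁻¹ * g)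
      (Or.inr ⟨by rw [h', fAut_uni, map_one], by rw [h', fAut_uni, hν]⟩)
  · have h' : Φ ((hO.incl (e.symm n))⁻¹ * g) = gAut (diagN nu nu_ne) * fAut σ := by
      rw [map_mul, map_inv, hc, h, hn, mul_assoc, inv_mul_cancel_left]
    set X : SL(2, K9) := PSLBinary.comp (-nu) with hX
    set Y : SL(2, K9) := conjSL (diagN nu nu_ne) (fieldSL σ X) with hY
    have htX : (X : Matrix (Fin 2) (Fin 2) K9).trace = -nu := by simp [hX, PSLBinary.coe_comp, trace_fin_two]
    have htY : (Y : Matrix (Fin 2) (Fin 2) K9).trace = nu - 1 := by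
      rw [hY, conjSL_coe, trace_mul_cycle, Units.inv_mul, Matrix.one_mul, fieldSL_coe,
        show ((X : Matrix (Fin 2) (Fin 2) K9).map σ).trace = σ (X : Matrix (Fin 2) (Fin 2) K9).trace from
          (AddMonoidHom.map_trace σ.toAddMonoidHom _).symm, htX, map_neg, hν, neg_sub]
    have htXX : ((X * X : SL(2, K9)) : Matrix (Fin 2) (Fin 2) K9).trace = nu - 1 := by
      rw [Matrix.SpecialLinearGroup.coe_mul, hX, PSLBinary.coe_comp]
      decide +kernel
    obtain ⟨s, hs⟩ := isConj_iff.1 (PSLBinary.isConj_of_trace (htY.trans htXX.symm) (by rw [htY]; decide +kernel))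
    have key : Φ (hO.incl (e.symm (QuotientGroup.mk s)) * ((hO.incl (e.symm n))⁻¹ * g)) (QuotientGroup.mk X) =
        (QuotientGroup.mk X : P9) ^ 2 := by
      rw [map_mul, hc, h', MulAut.mul_apply, MulAut.mul_apply, MulAut.conj_apply]
      show (QuotientGroup.mk s : P9) * QuotientGroup.mk Y * (QuotientGroup.mk s)⁻¹ = _
      rw [← QuotientGroup.mk_inv, ← QuotientGroup.mk_mul, ← QuotientGroup.mk_mul, hs, pow_two,
        QuotientGroup.mk_mul]
    refine h5 (Small.char_five_of_square hO.le_sl (x := hO.incl (e.symm (QuotientGroup.mk X)))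
      (k := hO.incl (e.symm (QuotientGroup.mk s)) * ((hO.incl (e.symm n))⁻¹ * g)) ?_ ?_ ?_)
    · rw [← map_pow, ← map_pow, ← QuotientGroup.mk_pow, hX, comp_pow_five, QuotientGroup.mk_one, map_one, map_one]
    · intro h1
      exact comp_not_center (e.symm.injective ((hO.incl_injective (h1.trans (map_one _).symm)).trans (map_one _).symm))
    · rw [← hk, key, map_pow, map_pow]

end Model

end Cfsg.Agent.PSLThree
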