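import Mathlib
import Cfsg.Agent.Lib.PSLThree.Over.Nine
import Cfsg.Agent.S2119

/-!
# Overgroups of the cores without transvections
-/

set_option autoImplicit false
set_option linter.unusedSectionVars false

namespace Cfsg.Agent.PSLThree

open Matrix
open Cfsg.Agent.AutPSL.Basic (gAut fAut)

variable {F : Type*} [Field F] [Fintype F] {G P : Subgroup (GL (Fin 3) F)}

/-- natural characteristic -/
theorem over_two (hO : Over G P) (hT : ¬ HasTrv P) (p : ℕ) [Fact p.Prime] [CharP F p] (hp : p ≠ 2)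
    {K : Type} [Field K] [Fintype K] [CharP K p]
    (e : Bar P ≃* Matrix.ProjectiveSpecialLinearGroup (Fin 2) K) :
    Nonempty (Bar G ≃* Matrix.ProjectiveSpecialLinearGroup (Fin 2) K) ∨
      Nonempty (Bar G ≃* (GL (Fin 2) K ⧸ Subgroup.center (GL (Fin 2) K))) := by
  obtain ⟨Φ, hi, hk, hc⟩ := hO.exists_model e
  have hlin : ∀ g, ∃ m : GL (Fin 2) K, Φ g = gAut m := fun g => by
    obtain ⟨m, σ, h⟩ := AutPSL.Out.exists_decomp_two (Φ g)
    rw [field_trivial hO hT p hp e Φ hk hc h, map_one, mul_one] at h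
    exact ⟨m, h⟩
  by_cases hinn : ∀ g, ∃ n, Φ g = MulAut.conj n
  · exact Or.inl (hO.equiv_of_inner e Φ hi hc hinn)
  right
  push Not at hinn
  obtain ⟨g₀, hg₀⟩ := hinn
  obtain ⟨ν, hν⟩ := FiniteField.exists_nonsquare (F := K) (by rw [ringChar.eq K p]; exact hp)
  have hν0 : ν ≠ 0 := fun h => hν (h ▸ IsSquare.zero)
  have hinner : ∀ n, MulAut.conj n ∈ Φ.range := fun n => ⟨_, hc n⟩
  have hD : gAut (diagN ν hν0) ∈ Φ.range := by
    obtain ⟨m₀, hm₀⟩ := hlin g₀
    rcases gAut_split hν0 hν m₀ with ⟨n, hn⟩ | ⟨n, hn⟩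
    · exact absurd (hm₀.trans hn) (hg₀ n)
    · refine ⟨(hO.incl (e.symm n))⁻¹ * g₀, ?_⟩
      rw [map_mul, map_inv, hc, hm₀, hn, inv_mul_cancel_left]
  have hr : Φ.range = (gAut (n := 2) (F := K)).range := by
    refine le_antisymm ?_ ?_
    · rintro _ ⟨g, rfl⟩
      obtain ⟨m, hm⟩ := hlin g
      exact ⟨m, hm.symm⟩
    · rintro _ ⟨m, rfl⟩
      rcases gAut_split hν0 hν m with ⟨n, hn⟩ | ⟨n, hn⟩
      · exact hn ▸ hinner n
      · exact hn ▸ mul_mem (hinner n) hD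
  refine ⟨((MonoidHom.ofInjective hi).trans (MulEquiv.subgroupCongr hr)).trans
    ((QuotientGroup.quotientKerEquivRange _).symm.trans (QuotientGroup.quotientMulEquivOfEq ?_))⟩
  ext m
  rw [MonoidHom.mem_ker, AutPSL.Out.gAut_eq_one_iff le_rfl]

/-- five or seven points: the diagonal automorphism fuses too many classes -/
theorem over_prime (hO : Over G P) {l : ℕ} [Fact l.Prime] (hlF : (l : F) ≠ 0) (h3 : l ≠ 3)
    {K : Type} [Field K] [Fintype K] (hcard : Fintype.card K = l) [CharP K l] {k : ℕ}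
    (hk4 : (({1, k, k * k, k * k * k} : Finset ℕ).image (· % l)).card = 4) (hk0 : (k : K) ≠ 0)
    (hns : ¬ IsSquare (k : K)) (e : Bar P ≃* Matrix.ProjectiveSpecialLinearGroup (Fin 2) K) :
    Nonempty (Bar G ≃* Matrix.ProjectiveSpecialLinearGroup (Fin 2) K) := by
  obtain ⟨Φ, hi, hk, hc⟩ := hO.exists_model e
  obtain ⟨ea⟩ := AutPSL.Out.exists_ringAut_equiv (F := K) (p := l) (f := 1) (by rw [hcard, pow_one])
  refine hO.equiv_of_inner e Φ hi hc fun g => ?_
  obtain ⟨m, σ, h⟩ := AutPSL.Out.exists_decomp_two (Φ g)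
  rw [show σ = 1 from ea.injective (Subsingleton.elim (α := Multiplicative (ZMod 1)) _ _), map_one, mul_one] at h
  rcases gAut_split hk0 hns m with ⟨n, hn⟩ | ⟨n, hn⟩
  · exact ⟨n, h.trans hn⟩
  · exfalso
    have h' : Φ ((hO.incl (e.symm n))⁻¹ * g) = gAut (diagN (k : K) hk0) := by
      rw [map_mul, map_inv, hc, h, hn, inv_mul_cancel_left]
    refine power_fusion hO.le_sl hlF h3 (x := hO.incl (e.symm (uniBar 1))) ?_ ?_ hk4
      (y := (hO.incl (e.symm n))⁻¹ * g) ?_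
    · rw [← map_pow, ← map_pow, uniBar_nat, CharP.cast_eq_zero K l, zero_mul, uniBar_zero, map_one, map_one]
    · intro h1
      exact one_ne_zero (uniBar_injective ((e.symm.injective ((hO.incl_injective (h1.trans (map_one _).symm)).trans
        (map_one _).symm)).trans uniBar_zero.symm))
    · rw [← hk, h', gAut_diagN, ← map_pow, ← map_pow, uniBar_nat]

/-- the alternating group of degree seven -/
theorem over_seven (hO : Over G P) (h7 : ((7 : ℕ) : F) ≠ 0) (e : Bar P ≃* ↥(alternatingGroup (Fin 7))) :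
    Nonempty (Bar G ≃* ↥(alternatingGroup (Fin 7))) := by
  haveI : Fact (Nat.Prime 7) := ⟨by norm_num⟩
  obtain ⟨Φ, hi, hk, hc⟩ := hO.exists_model e
  have hconj : ∀ n : alternatingGroup (Fin 7),
      (MulAut.conjNormal (n : Equiv.Perm (Fin 7)) : MulAut ↥(alternatingGroup (Fin 7))) = MulAut.conj n :=
    fun n => MulEquiv.ext fun a => Subtype.ext (by simp [MulAut.conjNormal_apply])
  obtain ⟨c, x, hcs, hx7, hx1, hcx⟩ : ∃ (c : Equiv.Perm (Fin 7)) (x : alternatingGroup (Fin 7)),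
      c ∉ alternatingGroup (Fin 7) ∧ x ^ 7 = 1 ∧ x ≠ 1 ∧
        c * (x : Equiv.Perm (Fin 7)) * c⁻¹ = (x : Equiv.Perm (Fin 7)) ^ 3 :=
    ⟨⟨fun i => 3 * i, fun i => 5 * i, by decide, by decide⟩,
      ⟨finRotate 7, Equiv.Perm.mem_alternatingGroup.2 (by decide +kernel)⟩,
      fun h => by
        have := Equiv.Perm.mem_alternatingGroup.1 h
        revert this
        decide +kernel,
      by decide +kernel, by decide +kernel, by decide +kernel⟩
  refine hO.equiv_of_inner e Φ hi hc fun g => ?_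
  obtain ⟨σ, hσ⟩ := (S2119.result 7 (by norm_num) (by norm_num)).2 (Φ g)
  by_cases hσA : σ ∈ alternatingGroup (Fin 7)
  · exact ⟨⟨σ, hσA⟩, hσ.symm.trans (hconj ⟨σ, hσA⟩)⟩
  exfalso
  have hmem : c * σ⁻¹ ∈ alternatingGroup (Fin 7) :=
    (Subgroup.mul_mem_iff_of_index_two alternatingGroup.index_eq_two).2 (iff_of_false hcs (by rwa [inv_mem_iff]))
  have h' : Φ (hO.incl (e.symm ⟨c * σ⁻¹, hmem⟩) * g) = MulAut.conjNormal c := by
    rw [map_mul, hc, ← hσ, ← hconj, ← map_mul]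
    exact congrArg _ (inv_mul_cancel_right c σ)
  refine power_fusion hO.le_sl h7 (by norm_num) (x := hO.incl (e.symm x)) (k := 3) ?_ ?_ (by decide)
    (y := hO.incl (e.symm ⟨c * σ⁻¹, hmem⟩) * g) ?_
  · rw [← map_pow, ← map_pow, hx7, map_one, map_one]
  · intro h1
    exact hx1 (e.symm.injective ((hO.incl_injective (h1.trans (map_one _).symm)).trans (map_one _).symm))
  · rw [← hk, h', ← map_pow, ← map_pow]
    exact congrArg (fun z => hO.incl (e.symm z)) (Subtype.ext (by rw [MulAut.conjNormal_apply]; exact hcx))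

open Cfsg.Agent.S0254 (K9) in
/-- the alternating group of degree six -/
theorem over_six (hO : Over G P) (h3 : ((3 : ℕ) : F) ≠ 0) (e₀ : Bar P ≃* ↥(alternatingGroup (Fin 6))) :
    Nonempty (Bar G ≃* ↥(alternatingGroup (Fin 6))) ∨
      ((5 : ℕ) : F) = 0 ∧ ∃ L : Subgroup (Bar G), L.index = 2 ∧ Nonempty (↥L ≃* ↥(alternatingGroup (Fin 6))) := by
  obtain ⟨e6⟩ := S0254.result (F := K9) rfl
  let e := e₀.trans e6.symm
  obtain ⟨Φ, hi, hk, hc⟩ := hO.exists_model e
  by_cases h5 : ((5 : ℕ) : F) = 0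
  · obtain ⟨ψ, -, hψker⟩ := AutPSL.Out.exists_proj_two (F := K9)
    let f : Bar G →* (K9 ≃+* K9) := ψ.comp Φ
    have hker : f.ker = hO.incl.range := by
      ext g
      constructor
      · intro hg
        obtain ⟨m, hm⟩ : Φ g ∈ (gAut (n := 2) (F := K9)).range := hψker ▸ hg
        obtain ⟨n, hn⟩ := nine_linear hO h3 e Φ hk hc hm.symm
        exact ⟨e.symm n, hi ((hc n).trans hn.symm)⟩
      · rintro ⟨x, rfl⟩
        obtain ⟨n, rfl⟩ := e.symm.surjective x
        show ψ (Φ (hO.incl (e.symm n))) = 1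
        rw [hc, ← MonoidHom.mem_ker, hψker]
        obtain ⟨s, rfl⟩ := QuotientGroup.mk_surjective n
        exact ⟨_, gAut_toGL s⟩
    have hidx : hO.incl.range.index ∣ 2 := by
      rw [← hker, Subgroup.index_ker]
      haveI : Fact (Nat.Prime 3) := ⟨Nat.prime_three⟩
      obtain ⟨ea⟩ := AutPSL.Out.exists_ringAut_equiv (F := K9) (p := 3) (f := 2) rfl
      have h := Subgroup.card_subgroup_dvd_card f.range
      rwa [Nat.card_congr ea.toEquiv, Nat.card_congr Multiplicative.toAdd, Nat.card_zmod] at h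
    let eR : hO.incl.range ≃* ↥(alternatingGroup (Fin 6)) :=
      (MonoidHom.ofInjective hO.incl_injective).symm.trans e₀
    rcases (Nat.dvd_prime Nat.prime_two).1 hidx with h | h
    · exact Or.inl ⟨((MulEquiv.subgroupCongr (Subgroup.index_eq_one.1 h)).trans Subgroup.topEquiv).symm.trans eR⟩
    · exact Or.inr ⟨h5, _, h, ⟨eR⟩⟩
  · refine Or.inl ((hO.equiv_of_inner e Φ hi hc fun g => ?_).map (·.trans e6))
    obtain ⟨m, σ, h⟩ := AutPSL.Out.exists_decomp_two (Φ g)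
    rw [nine_field hO h3 e Φ hk hc h5 h, map_one, mul_one] at h
    exact nine_linear hO h3 e Φ hk hc h

/-- the possibilities above a core without transvections -/
theorem small_over (p α : ℕ) [Fact p.Prime] (hp : p ≠ 2) (hF : Fintype.card F = p ^ α)
    (hO : Over G P) (hT : ¬ HasTrv P) (h : SmallType F p α (Bar P)) :
    (∃ (K : Type) (_ : Field K) (_ : Fintype K) (β : ℕ), Fintype.card K = p ^ β ∧ β ∣ α ∧ p ^ β ≠ 3 ∧
      (Nonempty (Bar G ≃* Matrix.ProjectiveSpecialLinearGroup (Fin 2) K) ∨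
        Nonempty (Bar G ≃* (GL (Fin 2) K ⧸ Subgroup.center (GL (Fin 2) K))))) ∨
    ((p ^ α % 10 = 1 ∨ p ^ α % 10 = 9) ∧ ∃ (K : Type) (_ : Field K) (_ : Fintype K),
      Fintype.card K = 5 ∧ Nonempty (Bar G ≃* Matrix.ProjectiveSpecialLinearGroup (Fin 2) K)) ∨
    ((p ^ α) ^ 3 % 7 = 1 ∧ ∃ (K : Type) (_ : Field K) (_ : Fintype K),
      Fintype.card K = 7 ∧ Nonempty (Bar G ≃* Matrix.ProjectiveSpecialLinearGroup (Fin 2) K)) ∨
    (p = 5 ∧ Even α ∧ (Nonempty (Bar G ≃* ↥(alternatingGroup (Fin 6))) ∨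
      Nonempty (Bar G ≃* ↥(alternatingGroup (Fin 7))) ∨
      ∃ L : Subgroup (Bar G), L.index = 2 ∧ Nonempty (↥L ≃* ↥(alternatingGroup (Fin 6))))) ∨
    ((p ^ α % 30 = 1 ∨ p ^ α % 30 = 19) ∧ Nonempty (Bar G ≃* ↥(alternatingGroup (Fin 6)))) := by
  haveI : CharP F p := charP_of_card_eq_prime_pow hF
  have hcast : ∀ {n : ℕ}, n.Prime → p ≠ n → (n : F) ≠ 0 := fun hn hne h0 => hne
    ((Nat.prime_dvd_prime_iff_eq Fact.out hn).1 ((CharP.cast_eq_zero_iff F p _).1 h0))
  rcases h with ⟨K, iK, iK', β, hK, hβ, hβ3, ⟨e⟩⟩ | ⟨hp5, hmod, K, iK, iK', hK, ⟨e⟩⟩ |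
    ⟨hp7, hmod, K, iK, iK', hK, ⟨e⟩⟩ | ⟨hp3, hq3, hq5, ⟨e⟩⟩ | ⟨hp5, hev, ⟨e⟩⟩
  · haveI : CharP K p := charP_of_card_eq_prime_pow hK
    exact Or.inl ⟨K, iK, iK', β, hK, hβ, hβ3, over_two hO hT p hp e⟩
  · haveI : Fact (Nat.Prime 5) := ⟨by norm_num⟩
    haveI : CharP K 5 := charP_of_card_eq_prime_pow (f := 1) (by rw [hK, pow_one])
    have hne : ∀ n : ℕ, ¬ 5 ∣ n → (n : K) ≠ 0 := fun n hn h0 => hn ((CharP.cast_eq_zero_iff K 5 n).1 h0)
    refine Or.inr (Or.inl ⟨hmod, K, iK, iK', hK, over_prime hO (k := 2) (hcast (by norm_num) hp5) (by norm_num)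
      hK (by decide) (hne 2 (by norm_num)) (fun hsq => ?_) e⟩)
    rw [FiniteField.isSquare_iff (by rw [ringChar.eq K 5]; norm_num) (hne 2 (by norm_num)), hK] at hsq
    refine hne 3 (by norm_num) ?_
    norm_num at hsq
    push_cast
    linear_combination hsq
  · haveI : Fact (Nat.Prime 7) := ⟨by norm_num⟩
    haveI : CharP K 7 := charP_of_card_eq_prime_pow (f := 1) (by rw [hK, pow_one])
    have hne : ∀ n : ℕ, ¬ 7 ∣ n → (n : K) ≠ 0 := fun n hn h0 => hn ((CharP.cast_eq_zero_iff K 7 n).1 h0)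
    refine Or.inr (Or.inr (Or.inl ⟨hmod, K, iK, iK', hK, over_prime hO (k := 3) (hcast (by norm_num) hp7)
      (by norm_num) hK (by decide) (hne 3 (by norm_num)) (fun hsq => ?_) e⟩))
    rw [FiniteField.isSquare_iff (by rw [ringChar.eq K 7]; norm_num) (hne 3 (by norm_num)), hK] at hsq
    refine hne 26 (by norm_num) ?_
    norm_num at hsq
    push_cast
    linear_combination hsq
  · rcases over_six hO (hcast Nat.prime_three hp3) e with hA | ⟨h5, hL⟩
    · by_cases hp5 : p = 5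
      · refine Or.inr (Or.inr (Or.inr (Or.inl ⟨hp5, ?_, Or.inl hA⟩)))
        rw [hp5] at hq3
        by_contra hev
        obtain ⟨m, rfl⟩ := Nat.not_even_iff_odd.1 hev
        rw [pow_succ, pow_mul, Nat.mul_mod, Nat.pow_mod] at hq3
        norm_num at hq3
      · refine Or.inr (Or.inr (Or.inr (Or.inr ⟨?_, hA⟩)))
        have hodd : p ^ α % 2 = 1 := Nat.odd_iff.1 (((Fact.out : p.Prime).odd_of_ne_two hp).pow)
        have := hq5.resolve_left hp5
        omega
    · have hp5 : p = 5 := by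
        by_contra hne
        exact hcast (by norm_num) hne h5
      refine Or.inr (Or.inr (Or.inr (Or.inl ⟨hp5, ?_, Or.inr (Or.inr hL)⟩)))
      rw [hp5] at hq3
      by_contra hev
      obtain ⟨m, rfl⟩ := Nat.not_even_iff_odd.1 hev
      rw [pow_succ, pow_mul, Nat.mul_mod, Nat.pow_mod] at hq3
      norm_num at hq3
  · refine Or.inr (Or.inr (Or.inr (Or.inl ⟨hp5, hev, Or.inr (Or.inl (over_seven hO (hcast (by norm_num) ?_) e))⟩)))
    omega

end Cfsg.Agent.PSLThree
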