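import Cfsg.Agent.Lib.PSLThree.Over.Model
import Cfsg.Prelude.Def_Classical

/-!
# Overgroups of `SL₃` and `SU₃` over a subfield

* `lin_over`, `uni_over`: the first four families of the list.
-/

set_option autoImplicit false
set_option linter.unusedSectionVars false

namespace Cfsg.Agent.PSLThree.Over

open Matrix

variable {F : Type*} [Field F] [Fintype F] (p α : ℕ) [hp1 : Fact p.Prime] (hF : Fintype.card F = p ^ α)

include hF

theorem charP_F : CharP F p := charP_of_card_eq_prime_pow hF

theorem two_ne_zero' (hp : p ≠ 2) : (2 : F) ≠ 0 := by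
  haveI := charP_F p α hF
  intro h
  have : p ∣ 2 := (CharP.cast_eq_zero_iff F p 2).1 (by exact_mod_cast h)
  exact hp ((Nat.prime_dvd_prime_iff_eq hp1.out Nat.prime_two).1 this)

/-- the cardinality of a subfield -/
theorem exists_card (K : Subfield F) : ∃ n, Nat.card K = p ^ n ∧ n ∣ α ∧ 1 ≤ n ∧
    ∃ m, α = n * m ∧ Module.finrank K F = m := by
  classical
  haveI := charP_F p α hF
  haveI : Fintype K := Fintype.ofFinite K
  haveI : CharP K p := RingHom.charP K.subtype K.subtype.injective p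
  obtain ⟨n, hpp, hn⟩ := FiniteField.card K p
  have h1 := Module.card_eq_pow_finrank (K := K) (V := F)
  rw [hF, hn, ← pow_mul] at h1
  have e : α = n * Module.finrank K F := Nat.pow_right_injective hp1.out.two_le h1
  exact ⟨n, by rw [Nat.card_eq_fintype_card, hn], ⟨_, e⟩, n.pos, _, e, rfl⟩

omit hF in
/-- an element that becomes a cube, in degree prime to three, was one -/
theorem three_dvd_finrank {K : Subfield F} (a : Kˣ) (ha : ∀ k : Kˣ, k ^ 3 ≠ a) (b : F)
    (hb : b ^ 3 = ((a : K) : F)) : 3 ∣ Module.finrank K F := by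
  by_contra hndvd
  set m := Module.finrank K F with hm
  have hn : (Algebra.norm K b) ^ 3 = (a : K) ^ m := by
    rw [← map_pow, hb]
    exact Algebra.norm_algebraMap (a : K)
  have hn0 : Algebra.norm K b ≠ 0 := fun e => by
    rw [e, zero_pow (by norm_num)] at hn
    exact pow_ne_zero m a.ne_zero hn.symm
  set c : Kˣ := Units.mk0 _ hn0
  have hc : c ^ 3 = a ^ m := Units.ext (by rw [Units.val_pow_eq_pow_val, Units.val_pow_eq_pow_val]; exact hn)
  rcases (show m % 3 = 1 ∨ m % 3 = 2 by omega) with h | h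
  · refine ha (c * (a ^ (m / 3))⁻¹) ?_
    rw [mul_pow, inv_pow, hc, ← pow_mul]
    conv_lhs => rw [show m = m / 3 * 3 + 1 by omega, pow_succ]
    rw [show (m / 3 * 3 + 1) / 3 = m / 3 by omega, mul_right_comm, mul_inv_cancel, one_mul]
  · refine ha ((a ^ (m / 3 + 1)) * c⁻¹) ?_
    rw [mul_pow, inv_pow, hc, ← pow_mul, show (m / 3 + 1) * 3 = m + 1 by omega, pow_succ, mul_comm (a ^ m),
      mul_inv_cancel_right]

omit hF in
theorem three_dvd {U : Type*} [CommGroup U] {a : U} {n : ℕ} (hn : a ^ n = 1) (ha : ∀ k : U, k ^ 3 ≠ a) :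
    3 ∣ n := by
  by_contra hndvd
  rcases (show n % 3 = 1 ∨ n % 3 = 2 by omega) with h | h
  · refine ha (a ^ (n / 3))⁻¹ ?_
    rw [inv_pow, ← pow_mul, inv_eq_iff_mul_eq_one, ← pow_succ, show n / 3 * 3 + 1 = n by omega, hn]
  · refine ha (a ^ (n / 3 + 1)) ?_
    rw [← pow_mul, show (n / 3 + 1) * 3 = n + 1 by omega, pow_succ, hn, one_mul]

omit hF

/-- all of `GL₃(K)` -/
def linModel (K : Subfield F) : Model K where
  M := ⊤
  U := ⊤
  det_mem _ _ := Subgroup.mem_top _
  sc_mem _ _ := Subgroup.mem_top _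
  sc_det _ _ := Subgroup.mem_top _
  sgn_mem _ := Subgroup.mem_top _
  cyc_mem := Subgroup.mem_top _
  norm _ _ := ⟨1, Subgroup.mem_top _⟩

include hF

theorem lin_over' (hp : p ≠ 2) {G P : Subgroup (GL (Fin 3) F)} (hO : Over G P) (hL : LinType P) :
    (∃ (K : Type) (_ : Field K) (_ : Fintype K) (β : ℕ), Fintype.card K = p ^ β ∧ β ∣ α ∧
      Nonempty (Bar G ≃* Matrix.ProjectiveSpecialLinearGroup (Fin 3) K)) ∨
    (∃ (K : Type) (_ : Field K) (_ : Fintype K) (β : ℕ), Fintype.card K = p ^ β ∧ 3 ∣ p ^ β - 1 ∧ 3 * β ∣ α ∧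
      ∃ L : Subgroup (Bar G), L.index = 3 ∧
        Nonempty (↥L ≃* Matrix.ProjectiveSpecialLinearGroup (Fin 3) K)) := by
  classical
  obtain ⟨K, T, hK⟩ := hL
  haveI := charP_F p α hF
  haveI : Fintype K := Fintype.ofFinite K
  obtain ⟨β, hcard, hdvd, hβ, m, hm, hfr⟩ := exists_card p α hF K
  let K' := GaloisField p β
  haveI : Fintype K' := Fintype.ofFinite K'
  have hK' : Fintype.card K' = p ^ β := by
    rw [← Nat.card_eq_fintype_card, GaloisField.card p β (by omega)]
  let e : K' ≃+* K := FiniteField.ringEquivOfCardEq (K := K') (K' := K)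
    (by rw [hK', ← hcard, Nat.card_eq_fintype_card])
  let χ : Matrix.SpecialLinearGroup (Fin 3) K' →* GL (Fin 3) K :=
    (Matrix.GeneralLinearGroup.map (e : K' →+* K)).comp Matrix.SpecialLinearGroup.toGL
  have hχ : Function.Injective χ := fun x y h =>
    Subtype.ext (Matrix.map_injective e.injective (congrArg Units.val h))
  have hr : ∀ y, y ∈ χ.range ↔ y ∈ (linModel K).M ∧ Matrix.GeneralLinearGroup.det y = 1 := by
    intro y
    constructor
    · rintro ⟨w, rfl⟩
      refine ⟨Subgroup.mem_top _, Units.ext ?_⟩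
      rw [Matrix.GeneralLinearGroup.val_det_apply]
      show ((w : Matrix (Fin 3) (Fin 3) K').map (e : K' →+* K)).det = 1
      rw [show ((w : Matrix (Fin 3) (Fin 3) K').map (e : K' →+* K)).det = (e : K' →+* K)
        (w : Matrix (Fin 3) (Fin 3) K').det from (RingHom.map_det _ _).symm, w.2, map_one]
    · rintro ⟨-, hd⟩
      have hd' : (y : Matrix (Fin 3) (Fin 3) K).det = 1 := by
        rw [← Matrix.GeneralLinearGroup.val_det_apply, hd, Units.val_one]
      refine ⟨⟨(y : Matrix (Fin 3) (Fin 3) K).map (e.symm : K →+* K'), ?_⟩, Units.ext ?_⟩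
      · rw [show ((y : Matrix (Fin 3) (Fin 3) K).map (e.symm : K →+* K')).det = (e.symm : K →+* K')
          (y : Matrix (Fin 3) (Fin 3) K).det from (RingHom.map_det _ _).symm, hd', map_one]
      · ext i j
        exact congrArg Subtype.val (e.apply_symm_apply _)
  have hP : ∀ x, x ∈ P ↔ ∃ y ∈ (linModel K).M, Matrix.GeneralLinearGroup.det y = 1 ∧
      T * x * T⁻¹ = up K y := by
    intro x
    have hdx : ((T * x * T⁻¹ : GL (Fin 3) F) : Matrix (Fin 3) (Fin 3) F).det =
        (x : Matrix (Fin 3) (Fin 3) F).det := by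
      rw [Units.val_mul, Units.val_mul, det_units_conj]
    constructor
    · intro hx
      obtain ⟨hd, hrat⟩ := (hK x).1 hx
      let Y : Matrix (Fin 3) (Fin 3) K := fun i j => ⟨_, hrat i j⟩
      have hY : Y.det = 1 := Subtype.ext (by
        show K.subtype Y.det = _
        rw [RingHom.map_det]
        exact hdx.trans hd)
      refine ⟨Matrix.GeneralLinearGroup.mk'' Y (by rw [hY]; exact isUnit_one), Subgroup.mem_top _,
        Units.ext hY, Units.ext rfl⟩
    · rintro ⟨y, -, hd, e'⟩
      refine (hK x).2 ⟨?_, fun i j => ?_⟩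
      · rw [← hdx, e', ← Matrix.GeneralLinearGroup.val_det_apply, det_up, hd]
        rfl
      · rw [e']; exact rat_up K y i j
  rcases over_model (two_ne_zero' p α hF hp) hO (linModel K) T hP χ hχ hr with h | ⟨⟨a, -, ha, b, hb⟩, hL⟩
  · exact Or.inl ⟨K', inferInstance, inferInstance, β, hK', hdvd, h⟩
  · have ha' : ∀ k : Kˣ, k ^ 3 ≠ a := fun k => ha k (Subgroup.mem_top _)
    refine Or.inr ⟨K', inferInstance, inferInstance, β, hK', ?_, ?_, hL⟩
    · refine three_dvd (a := a) ?_ ha'
      rw [← hcard, Nat.card_eq_fintype_card, ← Fintype.card_units, pow_card_eq_one]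
    · obtain ⟨t, ht⟩ := three_dvd_finrank a ha' b hb
      exact ⟨t, by rw [hm, ← hfr, ht]; ring⟩

omit hF

/-- the unitary group of the standard form for `q₀ = p ^ β` -/
noncomputable def uniModel (K : Subfield F) (h2 : (2 : F) ≠ 0) (β : ℕ) [CharP K p]
    (hcard : Nat.card K = (p ^ β) ^ 2) : Model K where
  M :=
    { carrier := {y | (y : Matrix (Fin 3) (Fin 3) K)ᵀ *
        (y : Matrix (Fin 3) (Fin 3) K).map (iterateFrobenius K p β) = 1}
      one_mem' := by simp
      mul_mem' := fun {a b} ha hb => by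
        simp only [Set.mem_ofPred_eq, Units.val_mul, transpose_mul, Matrix.map_mul] at *
        rw [Matrix.mul_assoc, ← Matrix.mul_assoc (a : Matrix (Fin 3) (Fin 3) K)ᵀ, ha, Matrix.one_mul, hb]
      inv_mem' := fun {a} ha => by
        simp only [Set.mem_ofPred_eq] at *
        set A := (a : Matrix (Fin 3) (Fin 3) K)
        set B := ((a⁻¹ : GL (Fin 3) K) : Matrix (Fin 3) (Fin 3) K)
        have hAB : A * B = 1 := Units.mul_inv a
        calc Bᵀ * B.map (iterateFrobenius K p β)
            = Bᵀ * (Aᵀ * A.map (iterateFrobenius K p β)) * B.map (iterateFrobenius K p β) := by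
              rw [ha, Matrix.mul_one]
          _ = (A * B)ᵀ * (A * B).map (iterateFrobenius K p β) := by
              rw [transpose_mul, Matrix.map_mul]; simp only [Matrix.mul_assoc]
          _ = 1 := by rw [hAB]; simp }
  U := (powMonoidHom (p ^ β + 1) : Kˣ →* Kˣ).ker
  det_mem y hy := by
    rw [MonoidHom.mem_ker, powMonoidHom_apply]
    refine Units.ext ?_
    have h := congrArg Matrix.det (hy : (y : Matrix (Fin 3) (Fin 3) K)ᵀ *
      (y : Matrix (Fin 3) (Fin 3) K).map (iterateFrobenius K p β) = 1)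
    rw [det_mul, det_transpose, det_one, show ((y : Matrix (Fin 3) (Fin 3) K).map (iterateFrobenius K p β)).det =
      iterateFrobenius K p β (y : Matrix (Fin 3) (Fin 3) K).det from (RingHom.map_det _ _).symm,
      iterateFrobenius_def] at h
    rw [Units.val_pow_eq_pow_val, Units.val_one, Matrix.GeneralLinearGroup.val_det_apply, pow_succ']
    exact h
  sc_mem u hu := by
    rw [MonoidHom.mem_ker, powMonoidHom_apply] at hu
    have h := congrArg Units.val hu
    rw [Units.val_pow_eq_pow_val, Units.val_one, pow_succ'] at h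
    show ((sc K u : GL (Fin 3) K) : Matrix (Fin 3) (Fin 3) K)ᵀ *
      ((sc K u : GL (Fin 3) K) : Matrix (Fin 3) (Fin 3) K).map (iterateFrobenius K p β) = 1
    rw [sc_val]
    ext i j
    by_cases hij : i = j
    · subst hij; simp [iterateFrobenius_def, h]
    · simp [hij, Ne.symm hij]
  sc_det u hu := by
    rw [MonoidHom.mem_ker, powMonoidHom_apply]
    have h := congrFun (congrFun (hu : ((sc K u : GL (Fin 3) K) : Matrix (Fin 3) (Fin 3) K)ᵀ *
      ((sc K u : GL (Fin 3) K) : Matrix (Fin 3) (Fin 3) K).map (iterateFrobenius K p β) = 1) 0) 0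
    rw [sc_val] at h
    simp [iterateFrobenius_def] at h
    refine Units.ext ?_
    rw [Units.val_pow_eq_pow_val, Units.val_one, pow_succ']
    exact h
  sgn_mem i := by
    show (diagonal fun j => if j = i then (1 : K) else -1)ᵀ *
      (diagonal fun j => if j = i then (1 : K) else -1).map (iterateFrobenius K p β) = 1
    rw [diagonal_transpose, diagonal_map (map_zero _), diagonal_mul_diagonal, ← diagonal_one]
    congr 1
    funext j
    split_ifs <;> simp
  cyc_mem := by
    show (!![0, 1, 0; 0, 0, 1; 1, 0, 0] : Matrix (Fin 3) (Fin 3) K)ᵀ *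
      (!![0, 1, 0; 0, 0, 1; 1, 0, 0] : Matrix (Fin 3) (Fin 3) K).map (iterateFrobenius K p β) = 1
    ext i j
    fin_cases i <;> fin_cases j <;> simp [Matrix.mul_apply, Fin.sum_univ_three]
  norm y hy := by
    classical
    haveI : Fintype K := Fintype.ofFinite K
    set σ := iterateFrobenius K p β with hσ
    set Y := (y : Matrix (Fin 3) (Fin 3) K) with hY
    set B := Yᵀ * Y.map σ with hB
    have hinv : ((y⁻¹ : GL (Fin 3) K) : Matrix (Fin 3) (Fin 3) K) * Y = 1 := Units.inv_mul y
    have hcomm : ∀ s : GL (Fin 3) K, (s : Matrix (Fin 3) (Fin 3) K)ᵀ * (s : Matrix (Fin 3) (Fin 3) K).map σ = 1 →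
        Matrix.GeneralLinearGroup.det s = 1 →
        (s : Matrix (Fin 3) (Fin 3) K)ᵀ * B * (s : Matrix (Fin 3) (Fin 3) K).map σ = B := by
      intro s hs hd
      have h : ((y * s * y⁻¹ : GL (Fin 3) K) : Matrix (Fin 3) (Fin 3) K)ᵀ *
          ((y * s * y⁻¹ : GL (Fin 3) K) : Matrix (Fin 3) (Fin 3) K).map σ = 1 := hy s hs hd
      set S := (s : Matrix (Fin 3) (Fin 3) K)
      set Yi := ((y⁻¹ : GL (Fin 3) K) : Matrix (Fin 3) (Fin 3) K)
      rw [Units.val_mul, Units.val_mul] at h
      calc Sᵀ * B * S.map σ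
          = (Yi * Y)ᵀ * (Sᵀ * (Yᵀ * Y.map σ) * S.map σ) * (Yi * Y).map σ := by
            rw [hinv]; simp [hB]
        _ = Yᵀ * ((Y * S * Yi)ᵀ * (Y * S * Yi).map σ) * Y.map σ := by
            simp only [transpose_mul, Matrix.map_mul, Matrix.mul_assoc]
        _ = B := by rw [h, Matrix.mul_one]
    have h2K : (2 : K) ≠ 0 := fun e => h2 (by
      have := congrArg K.subtype e
      rwa [map_ofNat, map_zero] at this)
    have hoff : ∀ a b, a ≠ b → B a b = 0 := by
      intro a b hab
      have h := congrFun (congrFun (hcomm (sgn K a) (by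
        show (diagonal fun j => if j = a then (1 : K) else -1)ᵀ *
          (diagonal fun j => if j = a then (1 : K) else -1).map σ = 1
        rw [diagonal_transpose, diagonal_map (map_zero _), diagonal_mul_diagonal, ← diagonal_one]
        congr 1
        funext j
        split_ifs <;> simp) (Units.ext (by simpa using det_sgn K a))) a) b
      change ((diagonal fun j => if j = a then (1 : K) else -1)ᵀ * B *
        (diagonal fun j => if j = a then (1 : K) else -1).map σ) a b = B a b at h
      rw [diagonal_transpose, diagonal_map (map_zero _), mul_diagonal, diagonal_mul, if_pos rfl, one_mul,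
        if_neg (Ne.symm hab), map_neg, map_one, mul_neg, mul_one, neg_eq_iff_add_eq_zero] at h
      rw [← two_mul] at h
      exact (mul_eq_zero.1 h).resolve_left h2K
    have hd : ∀ a, B a a = B 0 0 := by
      have h := hcomm (cyc K) (by
        show (!![0, 1, 0; 0, 0, 1; 1, 0, 0] : Matrix (Fin 3) (Fin 3) K)ᵀ *
          (!![0, 1, 0; 0, 0, 1; 1, 0, 0] : Matrix (Fin 3) (Fin 3) K).map σ = 1
        ext i j
        fin_cases i <;> fin_cases j <;> simp [Matrix.mul_apply, Fin.sum_univ_three])
        (Units.ext (by simpa using det_cyc K))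
      change (!![0, 1, 0; 0, 0, 1; 1, 0, 0] : Matrix (Fin 3) (Fin 3) K)ᵀ * B *
        (!![0, 1, 0; 0, 0, 1; 1, 0, 0] : Matrix (Fin 3) (Fin 3) K).map σ = B at h
      have h11 := congrFun (congrFun h 1) 1
      have h22 := congrFun (congrFun h 2) 2
      simp [Matrix.mul_apply, Fin.sum_univ_three] at h11 h22
      intro a
      fin_cases a
      · rfl
      · exact h11.symm
      · exact (h22.symm.trans h11.symm)
    set q := p ^ β with hq
    have hfix : (B 0 0) ^ q = B 0 0 := by
      have h01 : B 0 0 = ∑ k, Y k 0 * (Y k 0) ^ q := by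
        rw [hB, Matrix.mul_apply]
        simp [hσ, iterateFrobenius_def, hq]
      rw [h01, ← iterateFrobenius_def, map_sum]
      refine Finset.sum_congr rfl fun k _ => ?_
      rw [map_mul, iterateFrobenius_def, iterateFrobenius_def, ← pow_mul, ← hq, ← pow_two, ← hcard,
        Nat.card_eq_fintype_card, FiniteField.pow_card, mul_comm]
    have hne : B 0 0 ≠ 0 := by
      intro h0
      have hz : B = 0 := by
        refine Matrix.ext fun a b => ?_
        by_cases h : a = b
        · subst h; rw [hd a, h0]; rfl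
        · exact hoff a b h
      have := congrArg Matrix.det hz
      rw [hB, det_mul, det_transpose, show (Y.map σ).det = σ Y.det from (RingHom.map_det _ _).symm,
        det_zero, mul_eq_zero] at this
      have hu : Y.det ≠ 0 := by
        rw [hY, ← Matrix.GeneralLinearGroup.val_det_apply]; exact Units.ne_zero _
      rcases this with h | h
      · exact hu h
      · exact hu ((map_eq_zero σ).1 h)
    obtain ⟨k, hk⟩ : ∃ k : Kˣ, k ^ (q + 1) = (Units.mk0 _ hne)⁻¹ := by
      set u : Kˣ := (Units.mk0 _ hne)⁻¹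
      have hq1 : 1 < q := by
        rcases Nat.eq_zero_or_pos β with rfl | hb
        · have h1 : Nat.card K = 1 := by rw [hcard]; simp [hq]
          exact absurd h1 (by rw [Nat.card_eq_fintype_card]; exact (Fintype.one_lt_card (α := K)).ne')
        · exact Nat.one_lt_pow hb.ne' hp1.out.one_lt
      have hu : u ^ (q - 1) = 1 := by
        show ((Units.mk0 _ hne)⁻¹ : Kˣ) ^ (q - 1) = 1
        rw [inv_pow, inv_eq_one]
        refine Units.ext ?_
        rw [Units.val_pow_eq_pow_val, Units.val_mk0, Units.val_one]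
        refine mul_left_cancel₀ hne ?_
        rw [← pow_succ', show q - 1 + 1 = q by omega, hfix, mul_one]
      obtain ⟨γ, hγ⟩ := IsCyclic.exists_generator (α := Kˣ)
      obtain ⟨e, he⟩ := (Submonoid.mem_powers_iff _ _).1
        ((IsOfFinOrder.mem_powers_iff_mem_zpowers (isOfFinOrder_of_finite γ)).2 (hγ u))
      have hord : orderOf γ = (q - 1) * (q + 1) := by
        rw [orderOf_eq_card_of_forall_mem_zpowers hγ, Nat.card_units, hcard]
        have := Nat.sq_sub_sq q 1
        rw [one_pow] at this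
        rw [this, mul_comm]
      rw [← he, ← pow_mul, ← orderOf_dvd_iff_pow_eq_one, hord, mul_comm e] at hu
      obtain ⟨d, hd'⟩ := Nat.dvd_of_mul_dvd_mul_left (by omega) hu
      exact ⟨γ ^ d, by rw [← pow_mul, mul_comm, ← hd', he]⟩
    refine ⟨k, ?_⟩
    show ((sc K k * y : GL (Fin 3) K) : Matrix (Fin 3) (Fin 3) K)ᵀ *
      ((sc K k * y : GL (Fin 3) K) : Matrix (Fin 3) (Fin 3) K).map σ = 1
    rw [Units.val_mul, sc_val, Matrix.smul_mul, Matrix.one_mul, transpose_smul,
      show ((k : K) • Y).map σ = σ (k : K) • Y.map σ from Matrix.ext fun a b => by simp,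
      Matrix.smul_mul, Matrix.mul_smul, smul_smul, ← hY, ← hB]
    have hkq : (k : K) * σ (k : K) = (B 0 0)⁻¹ := by
      rw [hσ, iterateFrobenius_def, ← pow_succ']
      have := congrArg Units.val hk
      rw [Units.val_pow_eq_pow_val, Units.val_inv_eq_inv_val, Units.val_mk0] at this
      exact this
    ext a b
    by_cases hab : a = b
    · subst hab
      rw [Matrix.smul_apply, hd a, hkq, smul_eq_mul, inv_mul_cancel₀ hne, one_apply_eq]
    · rw [Matrix.smul_apply, hoff a b hab, smul_zero, one_apply_ne hab]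

omit hp1 in
/-- the matrix condition for preserving the form -/
theorem preserves_iff {K : Type*} [Field K] (β : ℕ) [ExpChar K p] (A : Matrix (Fin 3) (Fin 3) K) :
    (∀ u v, Cfsg.hermForm 3 K (p ^ β) (A *ᵥ u) (A *ᵥ v) = Cfsg.hermForm 3 K (p ^ β) u v) ↔
      Aᵀ * A.map (iterateFrobenius K p β) = 1 := by
  have key : ∀ u v, Cfsg.hermForm 3 K (p ^ β) (A *ᵥ u) (A *ᵥ v) =
      u ⬝ᵥ (Aᵀ * A.map (iterateFrobenius K p β)) *ᵥ (iterateFrobenius K p β ∘ v) := by
    intro u v
    have hv : iterateFrobenius K p β ∘ (A *ᵥ v) = A.map (iterateFrobenius K p β) *ᵥ (iterateFrobenius K p β ∘ v) :=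
      funext fun i => RingHom.map_mulVec _ _ _ i
    rw [← mulVec_mulVec, dotProduct_mulVec, vecMul_transpose, ← hv]
    rfl
  constructor
  · intro h
    ext i j
    have hs : (iterateFrobenius K p β ∘ (Pi.single j 1 : Fin 3 → K)) = Pi.single j 1 := by
      funext k
      by_cases hk : k = j
      · subst hk; simp
      · simp [hk]
    have := (key (Pi.single i 1) (Pi.single j 1)).symm.trans (h _ _)
    rw [hs, Matrix.mulVec_single_one, single_one_dotProduct] at this
    rw [show (Aᵀ * A.map (iterateFrobenius K p β)) i j = _ from this]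
    show ∑ k, (Pi.single i 1 : Fin 3 → K) k * (Pi.single j 1 : Fin 3 → K) k ^ (p ^ β) = _
    rw [Finset.sum_eq_single i (fun k _ hk => by simp [hk]) (by simp)]
    have hpb : p ^ β ≠ 0 := pow_ne_zero _ (expChar_pos K p).ne'
    by_cases hij : i = j
    · subst hij; simp
    · rw [Pi.single_eq_of_ne hij, zero_pow hpb, mul_zero, one_apply_ne hij]
  · intro h u v
    rw [key, h, one_mulVec]
    rfl

include hF

theorem uni_over' (hp : p ≠ 2) {G P : Subgroup (GL (Fin 3) F)} (hO : Over G P) (hU : UniType P) :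
    (∃ (K : Type) (_ : Field K) (_ : Fintype K) (β : ℕ), Fintype.card K = p ^ (2 * β) ∧ 2 * β ∣ α ∧
      Nonempty (Bar G ≃* Cfsg.PSU 3 K (p ^ β))) ∨
    (∃ (K : Type) (_ : Field K) (_ : Fintype K) (β : ℕ), Fintype.card K = p ^ (2 * β) ∧ 3 ∣ p ^ β + 1 ∧
      6 * β ∣ α ∧ ∃ L : Subgroup (Bar G), L.index = 3 ∧ Nonempty (↥L ≃* Cfsg.PSU 3 K (p ^ β))) := by
  classical
  obtain ⟨K, q₀, T, hq, hK⟩ := hU
  haveI := charP_F p α hF
  haveI : Fintype K := Fintype.ofFinite K
  haveI : CharP K p := RingHom.charP K.subtype K.subtype.injective p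
  obtain ⟨n, hcard, hdvd, hn, m, hm, hfr⟩ := exists_card p α hF K
  obtain ⟨β, -, rfl⟩ := (Nat.dvd_prime_pow hp1.out).1 (⟨q₀, by rw [← hcard, hq, pow_two]⟩ : q₀ ∣ p ^ n)
  rw [hcard, ← pow_mul, mul_comm] at hq
  obtain rfl : n = 2 * β := Nat.pow_right_injective hp1.out.two_le hq
  have hcard' : Nat.card K = (p ^ β) ^ 2 := by rw [hcard, ← pow_mul, mul_comm]
  have h2 := two_ne_zero' p α hF hp
  let Md := uniModel p α K h2 β hcard'
  let K' := GaloisField p (2 * β)
  haveI : Fintype K' := Fintype.ofFinite K'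
  have hK' : Fintype.card K' = p ^ (2 * β) := by
    rw [← Nat.card_eq_fintype_card, GaloisField.card p _ (by omega)]
  let e : K' ≃+* K := FiniteField.ringEquivOfCardEq (K := K') (K' := K)
    (by rw [hK', ← hcard, Nat.card_eq_fintype_card])
  let χ : ↥(Cfsg.SU 3 K' (p ^ β)) →* GL (Fin 3) K :=
    ((Matrix.GeneralLinearGroup.map (e : K' →+* K)).comp Matrix.SpecialLinearGroup.toGL).comp
      (Cfsg.SU 3 K' (p ^ β)).subtype
  have hχ : Function.Injective χ := fun x y h =>
    Subtype.ext (Subtype.ext (Matrix.map_injective e.injective (congrArg Units.val h)))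
  have hfrob : ∀ (A : Matrix (Fin 3) (Fin 3) K'), (A.map (iterateFrobenius K' p β)).map (e : K' →+* K) =
      (A.map (e : K' →+* K)).map (iterateFrobenius K p β) := fun A => by
    ext i j
    simp [iterateFrobenius_def]
  have hmem : ∀ A : Matrix (Fin 3) (Fin 3) K', Aᵀ * A.map (iterateFrobenius K' p β) = 1 ↔
      (A.map (e : K' →+* K))ᵀ * (A.map (e : K' →+* K)).map (iterateFrobenius K p β) = 1 := fun A => by
    rw [← hfrob, ← transpose_map, ← Matrix.map_mul]
    constructor
    · intro h; rw [h]; simp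
    · intro h
      refine Matrix.map_injective e.injective ?_
      exact h.trans (by simp)
  have hr : ∀ y, y ∈ χ.range ↔ y ∈ Md.M ∧ Matrix.GeneralLinearGroup.det y = 1 := by
    intro y
    constructor
    · rintro ⟨w, rfl⟩
      refine ⟨(hmem _).1 ((preserves_iff p β _).1 w.2), Units.ext ?_⟩
      rw [Matrix.GeneralLinearGroup.val_det_apply]
      show ((w.1 : Matrix (Fin 3) (Fin 3) K').map (e : K' →+* K)).det = 1
      rw [show ((w.1 : Matrix (Fin 3) (Fin 3) K').map (e : K' →+* K)).det = (e : K' →+* K)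
        (w.1 : Matrix (Fin 3) (Fin 3) K').det from (RingHom.map_det _ _).symm, w.1.2, map_one]
    · rintro ⟨hM, hd⟩
      have hd' : (y : Matrix (Fin 3) (Fin 3) K).det = 1 := by
        rw [← Matrix.GeneralLinearGroup.val_det_apply, hd, Units.val_one]
      have hback : ((y : Matrix (Fin 3) (Fin 3) K).map (e.symm : K →+* K')).map (e : K' →+* K) =
          (y : Matrix (Fin 3) (Fin 3) K) := by ext i j; simp
      refine ⟨⟨⟨(y : Matrix (Fin 3) (Fin 3) K).map (e.symm : K →+* K'), ?_⟩, ?_⟩, Units.ext hback⟩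
      · rw [show ((y : Matrix (Fin 3) (Fin 3) K).map (e.symm : K →+* K')).det = (e.symm : K →+* K')
          (y : Matrix (Fin 3) (Fin 3) K).det from (RingHom.map_det _ _).symm, hd', map_one]
      · refine (preserves_iff p β _).2 ((hmem _).2 ?_)
        show (((y : Matrix (Fin 3) (Fin 3) K).map (e.symm : K →+* K')).map (e : K' →+* K))ᵀ * _ = 1
        rw [show ((Units.coeHom (Matrix (Fin 3) (Fin 3) K')).comp Matrix.SpecialLinearGroup.toGL)
          ⟨(y : Matrix (Fin 3) (Fin 3) K).map (e.symm : K →+* K'), _⟩ =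
            (y : Matrix (Fin 3) (Fin 3) K).map (e.symm : K →+* K') from rfl, hback]
        exact hM
  have hP : ∀ x, x ∈ P ↔ ∃ y ∈ Md.M, Matrix.GeneralLinearGroup.det y = 1 ∧ T * x * T⁻¹ = up K y := by
    intro x
    have hdx : ((T * x * T⁻¹ : GL (Fin 3) F) : Matrix (Fin 3) (Fin 3) F).det =
        (x : Matrix (Fin 3) (Fin 3) F).det := by
      rw [Units.val_mul, Units.val_mul, det_units_conj]
    have hm' : ∀ Y : Matrix (Fin 3) (Fin 3) K, Yᵀ * Y.map (iterateFrobenius K p β) = 1 ↔
        (Y.map K.subtype)ᵀ * (Y.map K.subtype).map (· ^ (p ^ β)) = 1 := fun Y => by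
      rw [show (Y.map K.subtype).map (· ^ (p ^ β)) = (Y.map (iterateFrobenius K p β)).map K.subtype by
        ext i j; simp [iterateFrobenius_def], ← transpose_map, ← Matrix.map_mul]
      constructor
      · intro h; rw [h]; simp
      · intro h
        exact Matrix.map_injective Subtype.val_injective (h.trans (by simp))
    constructor
    · intro hx
      obtain ⟨hd, hrat, hform⟩ := (hK x).1 hx
      let Y : Matrix (Fin 3) (Fin 3) K := fun i j => ⟨_, hrat i j⟩
      have hY : Y.det = 1 := Subtype.ext (by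
        show K.subtype Y.det = _
        rw [RingHom.map_det]
        exact hdx.trans hd)
      exact ⟨Matrix.GeneralLinearGroup.mk'' Y (by rw [hY]; exact isUnit_one), (hm' Y).2 hform,
        Units.ext hY, Units.ext rfl⟩
    · rintro ⟨y, hy, hd, e'⟩
      refine (hK x).2 ⟨?_, fun i j => ?_, ?_⟩
      · rw [← hdx, e', ← Matrix.GeneralLinearGroup.val_det_apply, det_up, hd]
        rfl
      · rw [e']; exact rat_up K y i j
      · rw [e']; exact (hm' _).1 hy
  rcases over_model h2 hO Md T hP χ hχ hr with h | ⟨⟨a, haU, ha, b, hb⟩, hL⟩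
  · exact Or.inl ⟨K', inferInstance, inferInstance, β, hK', hdvd, h⟩
  · have haq : a ^ (p ^ β + 1) = 1 := haU
    have h3 : 3 ∣ p ^ β + 1 := by
      have := three_dvd (U := ↥Md.U) (a := ⟨a, haU⟩) (n := p ^ β + 1) (Subtype.ext haq)
        (fun k e' => ha k k.2 (congrArg Subtype.val e'))
      exact this
    have ha' : ∀ k : Kˣ, k ^ 3 ≠ a := by
      intro k hk
      set u := k ^ (p ^ β + 1) with hu
      have h31 : u ^ 3 = 1 := by rw [hu, ← pow_mul, mul_comm, pow_mul, hk, haq]
      have hord : orderOf u ∣ p ^ β - 1 := by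
        refine orderOf_dvd_of_pow_eq_one ?_
        rw [hu, ← pow_mul]
        have := Nat.sq_sub_sq (p ^ β) 1
        rw [one_pow] at this
        rw [← this, ← hcard', Nat.card_eq_fintype_card, ← Fintype.card_units, pow_card_eq_one]
      rcases (Nat.dvd_prime Nat.prime_three).1 (orderOf_dvd_of_pow_eq_one h31) with h | h
      · exact ha k (by rw [orderOf_eq_one_iff] at h; exact h) hk
      · rw [h] at hord
        obtain ⟨c, hc⟩ := h3
        obtain ⟨d, hd⟩ := hord
        omega
    refine Or.inr ⟨K', inferInstance, inferInstance, β, hK', h3, ?_, hL⟩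
    obtain ⟨t, ht⟩ := three_dvd_finrank a ha' b hb
    exact ⟨t, by rw [hm, ← hfr, ht]; ring⟩

end Cfsg.Agent.PSLThree.Over

namespace Cfsg.Agent.PSLThree

variable {F : Type*} [Field F] [Fintype F] (p α : ℕ) [Fact p.Prime]

/-- an overgroup of a group of linear type -/
theorem lin_over (hp : p ≠ 2) (hF : Fintype.card F = p ^ α) {G P : Subgroup (GL (Fin 3) F)}
    (hO : Over G P) (hL : LinType P) :
    (∃ (K : Type) (_ : Field K) (_ : Fintype K) (β : ℕ), Fintype.card K = p ^ β ∧ β ∣ α ∧
      Nonempty (Bar G ≃* Matrix.ProjectiveSpecialLinearGroup (Fin 3) K)) ∨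
    (∃ (K : Type) (_ : Field K) (_ : Fintype K) (β : ℕ), Fintype.card K = p ^ β ∧ 3 ∣ p ^ β - 1 ∧ 3 * β ∣ α ∧
      ∃ L : Subgroup (Bar G), L.index = 3 ∧
        Nonempty (↥L ≃* Matrix.ProjectiveSpecialLinearGroup (Fin 3) K)) :=
  Over.lin_over' p α hF hp hO hL

/-- an overgroup of a group of unitary type -/
theorem uni_over (hp : p ≠ 2) (hF : Fintype.card F = p ^ α) {G P : Subgroup (GL (Fin 3) F)}
    (hO : Over G P) (hU : UniType P) :
    (∃ (K : Type) (_ : Field K) (_ : Fintype K) (β : ℕ), Fintype.card K = p ^ (2 * β) ∧ 2 * β ∣ α ∧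
      Nonempty (Bar G ≃* Cfsg.PSU 3 K (p ^ β))) ∨
    (∃ (K : Type) (_ : Field K) (_ : Fintype K) (β : ℕ), Fintype.card K = p ^ (2 * β) ∧ 3 ∣ p ^ β + 1 ∧
      6 * β ∣ α ∧ ∃ L : Subgroup (Bar G), L.index = 3 ∧ Nonempty (↥L ≃* Cfsg.PSU 3 K (p ^ β))) :=
  Over.uni_over' p α hF hp hO hU

end Cfsg.Agent.PSLThree
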