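import Cfsg.Agent.Lib.PSLThree.Defs

/-!
# Overgroups of a classical group over a subfield: the general step

A group over `K` is given by a subgroup `M` of `GL₃(K)` that contains the sign matrices and the three-cycle,
together with the group `U` of its determinants.  The normaliser in `GL₃(F)` of its part of determinant one
consists of scalar multiples of `M`, so an overgroup has index one or three modulo scalars.

* `Model`, `over_model`.
-/

set_option autoImplicit false
set_option linter.unusedSectionVars false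

namespace Cfsg.Agent.PSLThree.Over

open Matrix

/-- sign matrix fixing the coordinate `i` -/
def sgn (R : Type*) [CommRing R] (i : Fin 3) : GL (Fin 3) R :=
  ⟨diagonal fun j => if j = i then 1 else -1, diagonal fun j => if j = i then 1 else -1,
    by rw [diagonal_mul_diagonal, ← diagonal_one]; congr 1; funext j; split_ifs <;> simp,
    by rw [diagonal_mul_diagonal, ← diagonal_one]; congr 1; funext j; split_ifs <;> simp⟩

/-- the matrix of the three-cycle -/
def cyc (R : Type*) [CommRing R] : GL (Fin 3) R :=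
  ⟨!![0, 1, 0; 0, 0, 1; 1, 0, 0], !![0, 0, 1; 1, 0, 0; 0, 1, 0],
    by ext i j; fin_cases i <;> fin_cases j <;> simp [Matrix.mul_apply, Fin.sum_univ_three],
    by ext i j; fin_cases i <;> fin_cases j <;> simp [Matrix.mul_apply, Fin.sum_univ_three]⟩

theorem det_sgn (R : Type*) [CommRing R] (i : Fin 3) : ((sgn R i : GL (Fin 3) R) : Matrix (Fin 3) (Fin 3) R).det = 1 := by
  show (diagonal fun j => if j = i then (1 : R) else -1).det = 1
  rw [det_diagonal, Fin.prod_univ_three]
  fin_cases i <;> simp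

theorem det_cyc (R : Type*) [CommRing R] : ((cyc R : GL (Fin 3) R) : Matrix (Fin 3) (Fin 3) R).det = 1 := by
  simp [cyc, det_fin_three]

/-- in a cyclic group every element is a power of a non-cube times a cube -/
theorem exists_pow_mul_cube {U : Type*} [CommGroup U] [Finite U] [IsCyclic U] {a : U}
    (ha : ∀ k : U, k ^ 3 ≠ a) (x : U) : ∃ i : Fin 3, ∃ k : U, x = a ^ (i : ℕ) * k ^ 3 := by
  obtain ⟨γ, hγ⟩ := IsCyclic.exists_generator (α := U)
  obtain ⟨e, rfl⟩ := Subgroup.mem_zpowers_iff.1 (hγ a)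
  obtain ⟨f, rfl⟩ := Subgroup.mem_zpowers_iff.1 (hγ x)
  have he : ¬ (3 : ℤ) ∣ e := by
    rintro ⟨d, rfl⟩
    exact ha (γ ^ d) (by rw [← zpow_natCast, ← _root_.zpow_mul, mul_comm]; rfl)
  have key : ∀ (n : ℕ) (k : ℤ), f = e * n + 3 * k → γ ^ f = (γ ^ e) ^ n * (γ ^ k) ^ 3 := by
    intro n k h
    rw [h, _root_.zpow_add, _root_.zpow_mul, zpow_natCast, mul_comm 3 k, _root_.zpow_mul, zpow_ofNat]
  rcases (show f % 3 = 0 ∨ f % 3 = e % 3 ∨ f % 3 = 2 * e % 3 by omega) with h | h | h
  · exact ⟨0, _, key 0 (f / 3) (by omega)⟩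
  · exact ⟨1, _, key 1 ((f - e) / 3) (by omega)⟩
  · exact ⟨2, _, key 2 ((f - 2 * e) / 3) (by omega)⟩

variable {F : Type*} [Field F]

/-- the embedding of matrices over a subfield -/
abbrev up (K : Subfield F) : GL (Fin 3) K →* GL (Fin 3) F := Matrix.GeneralLinearGroup.map K.subtype

/-- scalar matrices -/
abbrev sc (R : Type*) [CommRing R] : Rˣ →* GL (Fin 3) R :=
  Units.map (Matrix.scalar (Fin 3) : R →+* Matrix (Fin 3) (Fin 3) R).toMonoidHom

theorem sc_mem (c : Fˣ) : sc F c ∈ Cfsg.Geo.scalars (Fin 3) F := ⟨c, rfl⟩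

theorem sc_val {R : Type*} [CommRing R] (c : Rˣ) :
    ((sc R c : GL (Fin 3) R) : Matrix (Fin 3) (Fin 3) R) = (c : R) • 1 := by
  show Matrix.scalar (Fin 3) (c : R) = _
  ext i j
  by_cases h : i = j <;> simp [h]

theorem sc_comm {R : Type*} [CommRing R] (c : Rˣ) (g : GL (Fin 3) R) : sc R c * g = g * sc R c := by
  refine Units.ext ?_
  rw [Units.val_mul, Units.val_mul, sc_val, Matrix.smul_mul, Matrix.one_mul, Matrix.mul_smul, Matrix.mul_one]

theorem det_sc {R : Type*} [CommRing R] (c : Rˣ) : Matrix.GeneralLinearGroup.det (sc R c) = c ^ 3 := by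
  refine Units.ext ?_
  rw [Matrix.GeneralLinearGroup.val_det_apply, sc_val, Units.val_pow_eq_pow_val, det_smul, det_one, mul_one,
    Fintype.card_fin]

theorem up_sc (K : Subfield F) (c : Kˣ) : up K (sc K c) = sc F (Units.map K.subtype.toMonoidHom c) := by
  refine Units.ext ?_
  ext i j
  show ((sc K c : GL (Fin 3) K) : Matrix (Fin 3) (Fin 3) K).map K.subtype i j =
    ((sc F (Units.map K.subtype.toMonoidHom c) : GL (Fin 3) F) : Matrix (Fin 3) (Fin 3) F) i j
  rw [map_apply, sc_val, sc_val]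
  by_cases h : i = j <;> simp [h]

theorem up_injective (K : Subfield F) : Function.Injective (up K) := by
  intro x y h
  refine Units.ext (Matrix.map_injective Subtype.val_injective ?_)
  exact congrArg Units.val h

theorem det_up (K : Subfield F) (y : GL (Fin 3) K) :
    ((Matrix.GeneralLinearGroup.det (up K y) : Fˣ) : F) = ((Matrix.GeneralLinearGroup.det y : Kˣ) : K) := by
  rw [Matrix.GeneralLinearGroup.val_det_apply, Matrix.GeneralLinearGroup.val_det_apply]
  exact (RingHom.map_det K.subtype (y : Matrix (Fin 3) (Fin 3) K)).symm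

/-- a classical group over `K` -/
structure Model (K : Subfield F) where
  M : Subgroup (GL (Fin 3) K)
  U : Subgroup Kˣ
  det_mem : ∀ y ∈ M, Matrix.GeneralLinearGroup.det y ∈ U
  sc_mem : ∀ u ∈ U, sc K u ∈ M
  sc_det : ∀ u : Kˣ, sc K u ∈ M → u ∈ U
  sgn_mem : ∀ i, sgn K i ∈ M
  cyc_mem : cyc K ∈ M
  norm : ∀ y : GL (Fin 3) K, (∀ s ∈ M, Matrix.GeneralLinearGroup.det s = 1 →
    y * s * y⁻¹ ∈ M) → ∃ k : Kˣ, sc K k * y ∈ M

/-- matrices with all entries in `K` -/
def Rat (K : Subfield F) (A : Matrix (Fin 3) (Fin 3) F) : Prop := ∀ i j, A i j ∈ K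

theorem Rat.mul {K : Subfield F} {A B : Matrix (Fin 3) (Fin 3) F} (hA : Rat K A) (hB : Rat K B) :
    Rat K (A * B) := fun i j => by
  rw [Matrix.mul_apply]
  exact sum_mem fun k _ => mul_mem (hA i k) (hB k j)

theorem rat_up (K : Subfield F) (y : GL (Fin 3) K) :
    Rat K ((up K y : GL (Fin 3) F) : Matrix (Fin 3) (Fin 3) F) := fun i j =>
  ((y : Matrix (Fin 3) (Fin 3) K) i j).2

/-- conjugation of the signs and of the cycle into `M₃(K)` makes an element a scalar multiple of a rational one -/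
theorem scaled {K : Subfield F} (h2 : (2 : F) ≠ 0) {h : GL (Fin 3) F}
    (hs : ∀ i, Rat K ((h * up K (sgn K i) * h⁻¹ : GL (Fin 3) F) : Matrix (Fin 3) (Fin 3) F))
    (hc : Rat K ((h * up K (cyc K) * h⁻¹ : GL (Fin 3) F) : Matrix (Fin 3) (Fin 3) F)) :
    ∃ (c : Fˣ) (y : GL (Fin 3) K), h = sc F c * up K y := by
  classical
  set A : Matrix (Fin 3) (Fin 3) F := (h : Matrix (Fin 3) (Fin 3) F) with hA
  set B : Matrix (Fin 3) (Fin 3) F := ((h⁻¹ : GL (Fin 3) F) : Matrix (Fin 3) (Fin 3) F) with hB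
  have hBA : B * A = 1 := Units.inv_mul h
  have hAB : A * B = 1 := Units.mul_inv h
  set C : Matrix (Fin 3) (Fin 3) F := ((up K (cyc K) : GL (Fin 3) F) : Matrix (Fin 3) (Fin 3) F) with hC
  have hdiag : ∀ i, Rat K (A * Matrix.single i i 1 * B) := by
    intro i
    have e : Matrix.single i i (1 : F) = (2 : F)⁻¹ •
        (1 + ((up K (sgn K i) : GL (Fin 3) F) : Matrix (Fin 3) (Fin 3) F)) := by
      ext a b
      show _ = (2 : F)⁻¹ * ((1 : Matrix (Fin 3) (Fin 3) F) a b + ((diagonal fun j => if j = i then (1 : K) else -1) a b : K))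
      by_cases hab : a = b
      · subst hab
        by_cases hai : a = i
        · subst hai; simp [h2, one_add_one_eq_two]
        · simp [hai, Ne.symm hai]
      · by_cases hai : a = i
        · subst hai; simp [hab]
        · simp [hab, Ne.symm hai]
    rw [e, Matrix.mul_smul, Matrix.smul_mul, Matrix.mul_add, Matrix.add_mul, Matrix.mul_one, hAB]
    intro a b
    refine mul_mem (inv_mem ?_) (add_mem ?_ (hs i a b))
    · rw [← one_add_one_eq_two]; exact add_mem (one_mem _) (one_mem _)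
    · rw [Matrix.one_apply]; split_ifs
      exacts [one_mem _, zero_mem _]
  have hC' : Rat K (A * C * B) := hc
  have hall : ∀ i j, Rat K (A * Matrix.single i j 1 * B) := by
    have step : ∀ i j, Rat K (A * Matrix.single i j 1 * B) → Rat K (A * Matrix.single i (j + 1) 1 * B) := by
      intro i j hij
      have e : Matrix.single i j (1 : F) * C = Matrix.single i (j + 1) 1 := by
        ext a b
        rw [Matrix.mul_apply, Fin.sum_univ_three]
        fin_cases i <;> fin_cases j <;> fin_cases a <;> fin_cases b <;>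
          simp [hC, cyc]
      have := hij.mul hC'
      rwa [show A * Matrix.single i j 1 * B * (A * C * B) = A * (Matrix.single i j 1 * (B * A) * C) * B by
        simp only [Matrix.mul_assoc], hBA, Matrix.mul_one, e] at this
    intro i j
    have h1 := hdiag i
    have h2' := step i i h1
    have h3 := step i _ h2'
    fin_cases i <;> fin_cases j <;> first | exact h1 | exact h2' | exact h3
  have hprod : ∀ a i j b, A a i * B j b ∈ K := by
    intro a i j b
    have e : (A * Matrix.single i j (1 : F) * B : Matrix (Fin 3) (Fin 3) F) a b = A a i * B j b := by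
      rw [Matrix.mul_apply, Finset.sum_eq_single j]
      · rw [Matrix.mul_single_apply_same, mul_one]
      · intro k _ hk
        rw [Matrix.mul_single_apply_of_ne _ _ _ _ _ hk, zero_mul]
      · simp
    rw [← e]
    exact hall i j a b
  obtain ⟨j, b, hjb⟩ : ∃ j b, B j b ≠ 0 := by
    by_contra hcon
    push Not at hcon
    have h0 : B = 0 := Matrix.ext hcon
    rw [h0, Matrix.mul_zero] at hAB
    exact one_ne_zero (congrFun (congrFun hAB 0) 0).symm
  let c : Fˣ := (Units.mk0 _ hjb)⁻¹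
  let Y : Matrix (Fin 3) (Fin 3) K := fun a i => ⟨A a i * B j b, hprod a i j b⟩
  have hY : A = (c : F) • Y.map K.subtype := by
    ext a i
    show A a i = (B j b)⁻¹ * (A a i * B j b)
    field_simp
  have hdet : IsUnit Y.det := by
    rw [isUnit_iff_ne_zero]
    intro h0
    have hA0 : A.det ≠ 0 := by
      intro h'
      have := congrArg Matrix.det hAB
      rw [det_mul, h', zero_mul, det_one] at this
      exact zero_ne_one this
    refine hA0 ?_
    rw [hY, det_smul, show (Y.map K.subtype).det = K.subtype Y.det from (RingHom.map_det K.subtype Y).symm,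
      h0, map_zero, mul_zero]
  refine ⟨c, Matrix.GeneralLinearGroup.mk'' Y hdet, Units.ext ?_⟩
  rw [Units.val_mul, sc_val, Matrix.smul_mul, Matrix.one_mul]
  exact hY

theorem mem_scalars_comm {x : GL (Fin 3) F} (hx : x ∈ Cfsg.Geo.scalars (Fin 3) F) (g : GL (Fin 3) F) :
    x * g = g * x := by
  obtain ⟨c, rfl⟩ := hx
  exact sc_comm c g

/-- an element commuting with the signs and the cycle is scalar -/
theorem scalar_of_comm {K : Type*} [Field K] (h2 : (2 : K) ≠ 0) {y : GL (Fin 3) K}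
    (hs : ∀ i, y * sgn K i = sgn K i * y) (hc : y * cyc K = cyc K * y) : ∃ k : Kˣ, y = sc K k := by
  have hne : (-1 : K) ≠ 1 := fun e => h2 (by
    rw [← one_add_one_eq_two]; nth_rewrite 1 [← e]; rw [neg_add_cancel])
  have hoff : ∀ a b, a ≠ b → (y : Matrix (Fin 3) (Fin 3) K) a b = 0 := by
    intro a b hab
    have hm : (y : Matrix (Fin 3) (Fin 3) K) * ((sgn K a : GL (Fin 3) K) : Matrix (Fin 3) (Fin 3) K) =
        ((sgn K a : GL (Fin 3) K) : Matrix (Fin 3) (Fin 3) K) * (y : Matrix (Fin 3) (Fin 3) K) := by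
      rw [← Units.val_mul, ← Units.val_mul, hs a]
    have := congrFun (congrFun hm a) b
    change ((y : Matrix (Fin 3) (Fin 3) K) * diagonal fun j => if j = a then (1 : K) else -1) a b =
      ((diagonal fun j => if j = a then (1 : K) else -1) * (y : Matrix (Fin 3) (Fin 3) K)) a b at this
    rw [mul_diagonal, diagonal_mul, if_neg (Ne.symm hab), if_pos rfl, one_mul] at this
    by_contra h0
    exact hne (mul_left_cancel₀ h0 (this.trans (mul_one _).symm))
  have hd : ∀ a, (y : Matrix (Fin 3) (Fin 3) K) a a = (y : Matrix (Fin 3) (Fin 3) K) 0 0 := by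
    have hm : (y : Matrix (Fin 3) (Fin 3) K) * ((cyc K : GL (Fin 3) K) : Matrix (Fin 3) (Fin 3) K) =
        ((cyc K : GL (Fin 3) K) : Matrix (Fin 3) (Fin 3) K) * (y : Matrix (Fin 3) (Fin 3) K) := by
      rw [← Units.val_mul, ← Units.val_mul, hc]
    have h01 := congrFun (congrFun hm 0) 1
    have h12 := congrFun (congrFun hm 1) 2
    simp [cyc, Matrix.mul_apply, Fin.sum_univ_three] at h01 h12
    intro a
    fin_cases a
    · rfl
    · exact h01.symm
    · exact (h12.symm.trans h01.symm)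
  have h0 : (y : Matrix (Fin 3) (Fin 3) K) 0 0 ≠ 0 := by
    intro e
    have hz : (y : Matrix (Fin 3) (Fin 3) K) = 0 := by
      ext a b
      by_cases h : a = b
      · subst h; rw [hd a, e]; rfl
      · exact hoff a b h
    exact y.ne_zero hz
  refine ⟨Units.mk0 _ h0, Units.ext ?_⟩
  rw [sc_val]
  ext a b
  by_cases h : a = b
  · subst h; simp [hd a]
  · simp [hoff a b h, h]

/-- **Overgroups.**  Modulo scalars an overgroup is the group itself, or has it with index three and then some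
determinant is a cube in `F` and no cube in `U`. -/
theorem over_model (h2 : (2 : F) ≠ 0) [Finite F] {G P : Subgroup (GL (Fin 3) F)} (hO : Over G P)
    {K : Subfield F} (Md : Model K) (T : GL (Fin 3) F)
    (hP : ∀ x, x ∈ P ↔ ∃ y ∈ Md.M, Matrix.GeneralLinearGroup.det y = 1 ∧ T * x * T⁻¹ = up K y)
    {Ω : Type*} [Group Ω] (χ : Ω →* GL (Fin 3) K) (hχ : Function.Injective χ)
    (hr : ∀ y, y ∈ χ.range ↔ y ∈ Md.M ∧ Matrix.GeneralLinearGroup.det y = 1) :
    Nonempty (Bar G ≃* Ω ⧸ Subgroup.center Ω) ∨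
      ((∃ a : Kˣ, a ∈ Md.U ∧ (∀ k ∈ Md.U, k ^ 3 ≠ a) ∧ ∃ b : F, b ^ 3 = ((a : K) : F)) ∧
        ∃ L : Subgroup (Bar G), L.index = 3 ∧ Nonempty (↥L ≃* Ω ⧸ Subgroup.center Ω)) := by
  classical
  haveI : Finite K := inferInstance
  -- the embedding
  have hin : ∀ w, T⁻¹ * up K (χ w) * T ∈ P := fun w => by
    obtain ⟨h1, h1'⟩ := (hr _).1 ⟨w, rfl⟩
    exact (hP _).2 ⟨_, h1, h1', by group⟩
  let e : Ω →* ↥G :=
    { toFun := fun w => ⟨T⁻¹ * up K (χ w) * T, hO.le (hin w)⟩
      map_one' := Subtype.ext (by simp)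
      map_mul' := fun v w => Subtype.ext (by
        show T⁻¹ * up K (χ (v * w)) * T = T⁻¹ * up K (χ v) * T * (T⁻¹ * up K (χ w) * T)
        rw [map_mul, map_mul]; group) }
  let ψ : Ω →* Bar G := (QuotientGroup.mk' _).comp e
  have hψ : ∀ w, ψ w = 1 ↔ T⁻¹ * up K (χ w) * T ∈ Cfsg.Geo.scalars (Fin 3) F := fun w => by
    show ((e w : ↥G) : Bar G) = 1 ↔ _
    rw [QuotientGroup.eq_one_iff, Subgroup.mem_subgroupOf]
    rfl
  have hker : ψ.ker = Subgroup.center Ω := by
    ext w
    rw [MonoidHom.mem_ker, hψ, Subgroup.mem_center_iff]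
    constructor
    · intro h v
      refine hχ (up_injective K ?_)
      have h' : up K (χ w) = T⁻¹ * up K (χ w) * T := by
        have h1 := mem_scalars_comm h T
        have h2' : T * (T⁻¹ * up K (χ w) * T) = up K (χ w) * T := by group
        rw [← h1] at h2'
        exact (mul_right_cancel h2').symm
      rw [map_mul, map_mul, map_mul, map_mul, h']
      exact (mem_scalars_comm h _).symm
    · intro h
      have key : ∀ s ∈ Md.M, Matrix.GeneralLinearGroup.det s = 1 → χ w * s = s * χ w := by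
        intro s hs hd
        obtain ⟨v, rfl⟩ := (hr s).2 ⟨hs, hd⟩
        rw [← map_mul, ← map_mul, h v]
      obtain ⟨k, hk⟩ := scalar_of_comm (K := K) (fun e' => h2 (by
          have := congrArg K.subtype e'
          rwa [map_ofNat, map_zero] at this))
        (fun i => key _ (Md.sgn_mem i) (Units.ext (by simpa using det_sgn K i)))
        (key _ Md.cyc_mem (Units.ext (by simpa using det_cyc K)))
      rw [hk, up_sc]
      have := sc_comm (Units.map K.subtype.toMonoidHom k) T⁻¹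
      rw [← this, mul_assoc, inv_mul_cancel, mul_one]
      exact sc_mem _
  set L := ψ.range with hL
  have eL : Nonempty (↥L ≃* Ω ⧸ Subgroup.center Ω) :=
    ⟨(QuotientGroup.quotientKerEquivRange ψ).symm.trans (QuotientGroup.quotientMulEquivOfEq hker)⟩
  -- every element of `G` is a scalar multiple of an element of `M`
  have hform : ∀ g ∈ G, ∃ (c : Fˣ) (y : GL (Fin 3) K), y ∈ Md.M ∧ T * g * T⁻¹ = sc F c * up K y := by
    intro g hg
    set h := T * g * T⁻¹ with hh
    have hconj : ∀ s ∈ Md.M, Matrix.GeneralLinearGroup.det s = 1 →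
        ∃ s' ∈ Md.M, Matrix.GeneralLinearGroup.det s' = 1 ∧ h * up K s * h⁻¹ = up K s' := by
      intro s hs hd
      have hx : T⁻¹ * up K s * T ∈ P := (hP _).2 ⟨s, hs, hd, by group⟩
      obtain ⟨s', hs', hd', e'⟩ := (hP _).1 (hO.normal g hg _ hx)
      exact ⟨s', hs', hd', by rw [← e', hh]; group⟩
    obtain ⟨c, y, hy⟩ := scaled h2 (K := K) (h := h)
      (fun i => by
        obtain ⟨s', -, -, e'⟩ := hconj _ (Md.sgn_mem i) (Units.ext (by simpa using det_sgn K i))
        rw [e']; exact rat_up K s')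
      (by
        obtain ⟨s', -, -, e'⟩ := hconj _ Md.cyc_mem (Units.ext (by simpa using det_cyc K))
        rw [e']; exact rat_up K s')
    obtain ⟨k, hk⟩ := Md.norm y fun s hs hd => by
      obtain ⟨s', hs', -, e'⟩ := hconj s hs hd
      have : up K (y * s * y⁻¹) = up K s' := by
        rw [← e', hy, map_mul, map_mul, map_inv]
        rw [sc_comm c, mul_assoc (up K y) (sc F c) (up K s), sc_comm c (up K s)]
        group
      rwa [up_injective K this]
    refine ⟨c * Units.map K.subtype.toMonoidHom k⁻¹, sc K k * y, hk, ?_⟩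
    rw [hy, map_mul, map_mul, up_sc, map_inv, mul_assoc, ← mul_assoc (sc F (Units.map K.subtype.toMonoidHom k)⁻¹),
      ← map_mul, inv_mul_cancel, map_one, one_mul]
  have hinL : ∀ (g : GL (Fin 3) F) (hg : g ∈ G) (c : Fˣ) (y : GL (Fin 3) K), y ∈ Md.M →
      T * g * T⁻¹ = sc F c * up K y → (∃ k ∈ Md.U, k ^ 3 = Matrix.GeneralLinearGroup.det y) →
      ((⟨g, hg⟩ : G) : Bar G) ∈ L := by
    intro g hg c y hy e' ⟨k, hk, hk3⟩
    have hy' : sc K k⁻¹ * y ∈ Md.M := mul_mem (Md.sc_mem _ (inv_mem hk)) hy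
    obtain ⟨w, hw⟩ := (hr (sc K k⁻¹ * y)).2 ⟨hy', by
      rw [map_mul, det_sc, inv_pow, hk3, inv_mul_cancel]⟩
    refine ⟨w, ?_⟩
    show ((e w : ↥G) : Bar G) = _
    rw [QuotientGroup.eq, Subgroup.mem_subgroupOf]
    have hmem : sc F (c * Units.map K.subtype.toMonoidHom k) ∈ Cfsg.Geo.scalars (Fin 3) F := sc_mem _
    suffices hh : (T⁻¹ * up K (χ w) * T)⁻¹ * g = sc F (c * Units.map K.subtype.toMonoidHom k) by
      show (T⁻¹ * up K (χ w) * T)⁻¹ * g ∈ _
      rw [hh]; exact hmem
    have hg' : g = T⁻¹ * (sc F c * up K y) * T := by rw [← e']; group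
    rw [hg', hw, map_mul, up_sc, map_inv, map_inv, map_mul]
    set s := sc F (Units.map K.subtype.toMonoidHom k)
    have c1 : sc F c * up K y = up K y * sc F c := sc_comm c _
    have c2 : s * up K y = up K y * s := sc_comm _ _
    have c3 : sc F c * s * T = T * (sc F c * s) := by
      rw [← map_mul]; exact sc_comm _ _
    calc (T⁻¹ * (s⁻¹ * up K y) * T)⁻¹ * (T⁻¹ * (sc F c * up K y) * T)
        = T⁻¹ * ((up K y)⁻¹ * (s * (sc F c * up K y))) * T := by group
      _ = T⁻¹ * ((up K y)⁻¹ * (up K y * (s * sc F c))) * T := by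
          rw [c1, ← mul_assoc s, c2, mul_assoc (up K y) s]
      _ = T⁻¹ * (sc F c * s) * T := by
          rw [inv_mul_cancel_left, ← sc_comm c s]
      _ = sc F c * s := by rw [mul_assoc, c3, inv_mul_cancel_left]
  by_cases hall : ∀ g ∈ G, ∀ (c : Fˣ) (y : GL (Fin 3) K), y ∈ Md.M → T * g * T⁻¹ = sc F c * up K y →
      ∃ k ∈ Md.U, k ^ 3 = Matrix.GeneralLinearGroup.det y
  · left
    have htop : L = ⊤ := by
      rw [eq_top_iff]
      intro x _
      obtain ⟨⟨g, hg⟩, rfl⟩ := QuotientGroup.mk_surjective x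
      obtain ⟨c, y, hy, e'⟩ := hform g hg
      exact hinL g hg c y hy e' (hall g hg c y hy e')
    obtain ⟨eL⟩ := eL
    exact ⟨(Subgroup.topEquiv.symm.trans (MulEquiv.subgroupCongr htop.symm)).trans eL⟩
  · right
    push Not at hall
    obtain ⟨g0, hg0, c0, y0, hy0, e0, hn0⟩ := hall
    set a0 := Matrix.GeneralLinearGroup.det y0 with ha0
    have ha0U : a0 ∈ Md.U := Md.det_mem _ hy0
    refine ⟨⟨a0, ha0U, hn0, ((c0⁻¹ : Fˣ) : F), ?_⟩, L, ?_, eL⟩
    · have hd := congrArg (fun x => ((Matrix.GeneralLinearGroup.det x : Fˣ) : F)) e0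
      have hg1 : Matrix.GeneralLinearGroup.det g0 = 1 := hO.le_sl hg0
      simp only [map_mul, map_inv, hg1, mul_one, mul_inv_cancel, Units.val_one, Units.val_mul, det_sc,
        det_up, Units.val_pow_eq_pow_val] at hd
      rw [← mul_left_cancel₀ (pow_ne_zero 3 c0.ne_zero) (a := ((c0 : F)) ^ 3) (b := ((c0⁻¹ : Fˣ) : F) ^ 3)
        (c := ((a0 : K) : F)) (by rw [← hd, ← mul_pow, Units.mul_inv, one_pow])]
    -- the index
    have hmem : ∀ (g : GL (Fin 3) F) (hg : g ∈ G) (c : Fˣ) (y : GL (Fin 3) K), y ∈ Md.M →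
        T * g * T⁻¹ = sc F c * up K y → ((⟨g, hg⟩ : G) : Bar G) ∈ L →
        ∃ k ∈ Md.U, k ^ 3 = Matrix.GeneralLinearGroup.det y := by
      rintro g hg c y hy e' ⟨w, hw⟩
      change ((e w : ↥G) : Bar G) = _ at hw
      rw [QuotientGroup.eq, Subgroup.mem_subgroupOf] at hw
      obtain ⟨d, hd⟩ := hw
      change sc F d = (T⁻¹ * up K (χ w) * T)⁻¹ * g at hd
      obtain ⟨hwM, hwd⟩ := (hr _).1 ⟨w, rfl⟩
      set y' := (χ w)⁻¹ * y with hy'
      have hup : up K y' = sc F (c⁻¹ * d) := by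
        have h1 : T * g * T⁻¹ = up K (χ w) * sc F d := by
          have hcm := sc_comm d T
          have : g = T⁻¹ * up K (χ w) * T * sc F d := by rw [hd]; group
          rw [this]
          calc T * (T⁻¹ * up K (χ w) * T * sc F d) * T⁻¹ = up K (χ w) * (T * sc F d) * T⁻¹ := by group
            _ = up K (χ w) * sc F d := by rw [← hcm]; group
        rw [e'] at h1
        rw [hy', map_mul, map_inv, map_mul, map_inv]
        calc (up K (χ w))⁻¹ * up K y = (sc F c)⁻¹ * ((up K (χ w))⁻¹ * (sc F c * up K y)) := by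
              rw [← mul_assoc ((up K (χ w))⁻¹), ← mul_assoc (sc F c)⁻¹]
              have := sc_comm c (up K (χ w))⁻¹
              rw [← this]; group
          _ = _ := by rw [h1, inv_mul_cancel_left]
      have hv : ((c⁻¹ * d : Fˣ) : F) ∈ K := by
        have := rat_up K y' 0 0
        rw [hup, sc_val] at this
        simpa using this
      let k : Kˣ := Units.mk0 ⟨_, hv⟩ fun e'' => (c⁻¹ * d : Fˣ).ne_zero (congrArg Subtype.val e'')
      have hyk : y' = sc K k := up_injective K (by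
        rw [hup, up_sc]; exact congrArg _ (Units.ext rfl))
      have hkM : sc K k ∈ Md.M := hyk ▸ mul_mem (inv_mem hwM) hy
      have hk3 : k ^ 3 = Matrix.GeneralLinearGroup.det y := by
        rw [← det_sc, ← hyk, hy', map_mul, map_inv, hwd, inv_one, one_mul]
      exact ⟨k, Md.sc_det k hkM, hk3⟩
    have hna : ∀ k : Md.U, k ^ 3 ≠ ⟨a0, ha0U⟩ := fun k e' => hn0 k k.2 (congrArg Subtype.val e')
    have hnot : ((⟨g0, hg0⟩ : G) : Bar G) ∉ L := fun h => by
      obtain ⟨k, hk, hk3⟩ := hmem g0 hg0 c0 y0 hy0 e0 h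
      exact hn0 k hk hk3
    set x0 : Bar G := ((⟨g0, hg0⟩ : G) : Bar G) with hx0
    have hnorm : L.Normal := by
      constructor
      intro x hx n
      obtain ⟨⟨g, hg⟩, rfl⟩ := QuotientGroup.mk_surjective n
      obtain ⟨w, rfl⟩ := hx
      obtain ⟨s', hs', hd', e'⟩ := (hP _).1 (hO.normal g hg _ (hin w))
      obtain ⟨v, rfl⟩ := (hr s').2 ⟨hs', hd'⟩
      refine ⟨v, ?_⟩
      show ((e v : ↥G) : Bar G) = (⟨g, hg⟩ : G) * ((e w : ↥G) : Bar G) * ((⟨g, hg⟩ : G) : Bar G)⁻¹
      rw [← QuotientGroup.mk_inv, ← QuotientGroup.mk_mul, ← QuotientGroup.mk_mul]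
      congr 1
      refine Subtype.ext ?_
      show T⁻¹ * up K (χ v) * T = g * (T⁻¹ * up K (χ w) * T) * g⁻¹
      rw [← e']; group
    have hsur : ∀ x : Bar G ⧸ L, ∃ i : Fin 3, x = ((x0 : Bar G ⧸ L)) ^ (i : ℕ) := by
      intro x
      obtain ⟨xb, rfl⟩ := QuotientGroup.mk_surjective x
      obtain ⟨⟨g, hg⟩, rfl⟩ := QuotientGroup.mk_surjective xb
      obtain ⟨c, y, hy, e'⟩ := hform g hg
      obtain ⟨i, k, hk⟩ := exists_pow_mul_cube hna ⟨_, Md.det_mem _ hy⟩
      refine ⟨i, ?_⟩
      rw [← QuotientGroup.mk_pow, QuotientGroup.eq_iff_div_mem, hx0, ← QuotientGroup.mk_pow, div_eq_mul_inv,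
        ← QuotientGroup.mk_inv, ← QuotientGroup.mk_mul]
      refine hinL _ _ (c * (c0 ^ (i : ℕ))⁻¹) (y * (y0 ^ (i : ℕ))⁻¹) (mul_mem hy (inv_mem (pow_mem hy0 _))) ?_
        ⟨k, k.2, ?_⟩
      · have hp : T * g0 ^ (i : ℕ) * T⁻¹ = sc F (c0 ^ (i : ℕ)) * up K (y0 ^ (i : ℕ)) := by
          rw [← conj_pow, e0, (show Commute (sc F c0) (up K y0) from sc_comm _ _).mul_pow, map_pow, map_pow]
        have hgi : T * (g0 ^ (i : ℕ))⁻¹ * T⁻¹ = (up K (y0 ^ (i : ℕ)))⁻¹ * (sc F (c0 ^ (i : ℕ)))⁻¹ := by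
          rw [← _root_.mul_inv_rev, ← hp]; group
        calc T * (g * (g0 ^ (i : ℕ))⁻¹) * T⁻¹ = T * g * T⁻¹ * (T * (g0 ^ (i : ℕ))⁻¹ * T⁻¹) := by group
          _ = sc F c * (sc F (c0 ^ (i : ℕ)))⁻¹ * (up K y * (up K (y0 ^ (i : ℕ)))⁻¹) := by
              rw [e', hgi, ← map_inv (sc F), ← sc_comm ((c0 ^ (i : ℕ))⁻¹) ((up K (y0 ^ (i : ℕ)))⁻¹),
                mul_assoc, ← mul_assoc (up K y), ← sc_comm ((c0 ^ (i : ℕ))⁻¹) (up K y)]
              group
          _ = _ := by simp only [map_mul, map_inv]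
      · have hk' := congrArg Subtype.val hk
        simp only [Subgroup.coe_mul, SubmonoidClass.coe_pow] at hk'
        rw [map_mul, map_inv, map_pow, hk', ← ha0, mul_comm (a0 ^ (i : ℕ)), mul_inv_cancel_right]
    have hne : (x0 : Bar G ⧸ L) ≠ 1 := fun h => hnot ((QuotientGroup.eq_one_iff x0).1 h)
    have hle : Nat.card (Bar G ⧸ L) ≤ 3 := by
      have := Nat.card_le_card_of_surjective (fun i : Fin 3 => (x0 : Bar G ⧸ L) ^ (i : ℕ))
        (fun x => (hsur x).imp fun i hi => hi.symm)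
      simpa using this
    have hge : Nat.card (Bar G ⧸ L) ≠ 2 ∧ 1 < Nat.card (Bar G ⧸ L) := by
      haveI : Nontrivial (Bar G ⧸ L) := ⟨⟨_, _, hne⟩⟩
      refine ⟨fun h2c => ?_, Finite.one_lt_card⟩
      have hsq : (x0 : Bar G ⧸ L) ^ 2 = 1 := by rw [← h2c]; exact pow_card_eq_one'
      rw [← QuotientGroup.mk_pow, QuotientGroup.eq_one_iff, hx0, ← QuotientGroup.mk_pow] at hsq
      obtain ⟨k, hk, hk3⟩ := hmem _ (pow_mem hg0 2) (c0 ^ 2) (y0 ^ 2) (pow_mem hy0 2) (by
        rw [← conj_pow, e0, (show Commute (sc F c0) (up K y0) from sc_comm _ _).mul_pow, map_pow, map_pow]) hsq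
      refine hn0 (k⁻¹ * a0) (mul_mem (inv_mem hk) ha0U) ?_
      rw [mul_pow, inv_pow, hk3, map_pow, ← ha0]
      group
    show L.index = 3
    rw [Subgroup.index]
    omega

end Cfsg.Agent.PSLThree.Over
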